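import Cfsg.Agent.W2.Five

/-! A presentation of `Sp₆(2)`. -/

set_option autoImplicit false
set_option maxRecDepth 1000000
set_option maxHeartbeats 0
set_option Elab.async false

namespace CF.W3.B4

open CF.Comp CF.Cod CF.W2

noncomputable def RG : List (List Nat) := [[1, 1],
  [3, 3],
  [5, 5],
  [7, 7],
  [9, 9],
  [1, 3, 1, 3, 1, 3],
  [3, 5, 3, 5, 3, 5],
  [5, 7, 5, 7, 5, 7],
  [7, 9, 7, 9, 7, 9],
  [1, 5, 1, 5],
  [1, 7, 1, 7],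
  [1, 9, 1, 9],
  [3, 7, 3, 7],
  [3, 9, 3, 9],
  [5, 9, 5, 9],
  [11, 11],
  [13, 13],
  [11, 13, 11, 13, 11, 13],
  [1, 11, 1, 11],
  [1, 13, 1, 13],
  [3, 11, 3, 11],
  [3, 13, 3, 13],
  [5, 11, 5, 11],
  [5, 13, 5, 13],
  [7, 11, 7, 11],
  [7, 13, 7, 13],
  [9, 11, 9, 11],
  [9, 13, 9, 13],
  [15, 15, 15],
  [17, 17],
  [15, 17, 15, 17],
  [15, 1, 16, 9],
  [15, 3, 16, 7],
  [15, 9, 16, 11],
  [15, 7, 16, 13],
  [15, 11, 16, 1],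
  [15, 13, 16, 3],
  [17, 1, 17, 9],
  [17, 3, 17, 7],
  [17, 11, 17, 11],
  [17, 13, 17, 13],
  [1, 3, 5, 7, 9, 7, 5, 3, 1, 3, 5, 7, 5, 3, 5, 17],
  [19, 19, 17],
  [19, 13, 11, 19, 13, 11, 19, 13, 11],
  [19, 5, 20, 6],
  [19, 1, 3, 7, 9, 20, 16]]

noncomputable def eH_c0 : BT (Bx Nat) := (BT.leaf (Bx.mk (nat_lit 0x0)))
noncomputable def eH_c1 : BT (Bx Nat) := (BT.leaf (Bx.mk (nat_lit 0x5f93ea84706dea8c800)))
noncomputable def eH_c2 : BT (Bx Nat) := (BT.leaf (Bx.mk (nat_lit 0x5b936a746e6daa8c800)))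
noncomputable def eH_c3 : BT (Bx Nat) := (BT.leaf (Bx.mk (nat_lit 0x5792ea646c6d6a8c800)))
noncomputable def eH_c4 : BT (Bx Nat) := (BT.leaf (Bx.mk (nat_lit 0x53926a546a6d2a8c800)))
noncomputable def eH_c5 : BT (Bx Nat) := (BT.leaf (Bx.mk (nat_lit 0x4f91ea44686cea8c800)))
noncomputable def eH_c6 : BT (Bx Nat) := (BT.leaf (Bx.mk (nat_lit 0x109211d0ea1b08685000)))
noncomputable def eH_c7 : BT (Bx Nat) := (BT.leaf (Bx.mk (nat_lit 0xcd51742a85343285800)))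
noncomputable def eH_p : BT (Bx Nat) := (BT.leaf (Bx.mk (nat_lit 0x1c1a6348748e91800000)))
noncomputable def eH_e0 : BT Nat := (BT.node (nat_lit 67) (BT.node (nat_lit 66) (BT.leaf (nat_lit 1048578)) (BT.leaf (nat_lit 786434))) (BT.node (nat_lit 68) (BT.leaf (nat_lit 524290)) (BT.node (nat_lit 69) (BT.leaf (nat_lit 262146)) (BT.leaf (nat_lit 2)))))
noncomputable def eH_e : BT Nat := eH_e0
noncomputable def eH_cols : List (BT (Bx Nat)) := [eH_c0, eH_c1, eH_c2, eH_c3, eH_c4, eH_c5, eH_c6, eH_c7]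
noncomputable def eH_ch (x j : Nat) : Bx Nat := chunkG eH_cols (nat_lit 1) x j
noncomputable def eH_L (x : Nat) : Bx (Nat → Nat) := lookG eH_ch (nat_lit 8) (nat_lit 255) (nat_lit 11) (nat_lit 2047) x
noncomputable def eH_pc (_ j : Nat) : Bx Nat := eH_p.get j
noncomputable def eH_pb : Bx (Nat → Nat) := lookG eH_pc (nat_lit 8) (nat_lit 255) (nat_lit 11) (nat_lit 2047) (nat_lit 0)
noncomputable def eH_rots : BT CW := (BT.node (nat_lit 8) (BT.node (nat_lit 4) (BT.node (nat_lit 2) (BT.node (nat_lit 1) (BT.leaf ⟨[], (nat_lit 1000000), (nat_lit 0), (nat_lit 0), (nat_lit 0)⟩) (BT.leaf ⟨[], (nat_lit 1000000), (nat_lit 0), (nat_lit 0), (nat_lit 1)⟩)) (BT.node (nat_lit 3) (BT.leaf ⟨[], (nat_lit 1000000), (nat_lit 0), (nat_lit 0), (nat_lit 2)⟩) (BT.leaf ⟨[(nat_lit 6), (nat_lit 6)], (nat_lit 15), (nat_lit 0), (nat_lit 0), (nat_lit 3)⟩))) (BT.node (nat_lit 6) (BT.node (nat_lit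 5) (BT.leaf ⟨[(nat_lit 7), (nat_lit 7)], (nat_lit 16), (nat_lit 0), (nat_lit 0), (nat_lit 3)⟩) (BT.leaf ⟨[(nat_lit 7), (nat_lit 6), (nat_lit 7), (nat_lit 6), (nat_lit 7), (nat_lit 6)], (nat_lit 17), (nat_lit 1), (nat_lit 0), (nat_lit 3)⟩)) (BT.node (nat_lit 7) (BT.leaf ⟨[(nat_lit 5), (nat_lit 6), (nat_lit 5), (nat_lit 6)], (nat_lit 26), (nat_lit 0), (nat_lit 0), (nat_lit 3)⟩) (BT.leaf ⟨[(nat_lit 5), (nat_lit 7), (nat_lit 5), (nat_lit 7)], (nat_lit 27), (nat_lit 0), (nat_lit 0), (nat_lit 3)⟩)))) (BT.node (nat_lit 12) (BT.node (nat_lit 10) (BT.node (nat_lit 9) (BT.leaf ⟨[(nat_lit 4), (nat_lit 6), (nat_lit 4), (nat_lit 6)], (nat_lit 24), (nat_lit 0), (nat_lit 0), (nat_lit 3)⟩) (BT.leaf ⟨[(nat_lit 4), (nat_lit 7), (nat_lit 4), (nat_lit 7)], (nat_lit 25), (nat_lit 0), (nat_lit 0), (nat_lit 3)⟩)) (BT.node (nat_lit 11) (BT.leaf ⟨[(nat_lit 3), (nat_lit 6), (nat_lit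 3), (nat_lit 6)], (nat_lit 22), (nat_lit 0), (nat_lit 0), (nat_lit 3)⟩) (BT.leaf ⟨[(nat_lit 3), (nat_lit 7), (nat_lit 3), (nat_lit 7)], (nat_lit 23), (nat_lit 0), (nat_lit 0), (nat_lit 3)⟩))) (BT.node (nat_lit 14) (BT.node (nat_lit 13) (BT.leaf ⟨[(nat_lit 2), (nat_lit 6), (nat_lit 2), (nat_lit 6)], (nat_lit 20), (nat_lit 0), (nat_lit 0), (nat_lit 3)⟩) (BT.leaf ⟨[(nat_lit 2), (nat_lit 7), (nat_lit 2), (nat_lit 7)], (nat_lit 21), (nat_lit 0), (nat_lit 0), (nat_lit 3)⟩)) (BT.node (nat_lit 15) (BT.leaf ⟨[(nat_lit 1), (nat_lit 6), (nat_lit 1), (nat_lit 6)], (nat_lit 18), (nat_lit 0), (nat_lit 0), (nat_lit 3)⟩) (BT.leaf ⟨[(nat_lit 1), (nat_lit 7), (nat_lit 1), (nat_lit 7)], (nat_lit 19), (nat_lit 0), (nat_lit 0), (nat_lit 3)⟩)))))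
noncomputable def eH_hcs : List CW := [⟨[(nat_lit 5)], (nat_lit 0), (nat_lit 0), (nat_lit 0), (nat_lit 0)⟩, ⟨[(nat_lit 4)], (nat_lit 1), (nat_lit 0), (nat_lit 0), (nat_lit 0)⟩, ⟨[(nat_lit 3)], (nat_lit 2), (nat_lit 0), (nat_lit 0), (nat_lit 0)⟩, ⟨[(nat_lit 2)], (nat_lit 3), (nat_lit 0), (nat_lit 0), (nat_lit 0)⟩, ⟨[(nat_lit 1)], (nat_lit 4), (nat_lit 0), (nat_lit 0), (nat_lit 0)⟩, ⟨[(nat_lit 5)], (nat_lit 5), (nat_lit 0), (nat_lit 0), (nat_lit 0)⟩, ⟨[(nat_lit 4)], (nat_lit 6), (nat_lit 0), (nat_lit 0), (nat_lit 0)⟩, ⟨[(nat_lit 3)], (nat_lit 7), (nat_lit 0), (nat_lit 0), (nat_lit 0)⟩, ⟨[(nat_lit 2)], (nat_lit 8), (nat_lit 0), (nat_lit 0), (nat_lit 0)⟩, ⟨[(nat_lit 1)], (nat_lit 9), (nat_lit 0), (nat_lit 0), (nat_lit 0)⟩]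
noncomputable def eH_H (x j : Nat) : Bx (Nat → Nat → Nat) := mkH eH_L eH_pb.1 eH_e.get (lmap CW.w eH_hcs) (nat_lit 6) (nat_lit 7) (nat_lit 8) (nat_lit 8) (nat_lit 256) (nat_lit 511) x (eH_rots.get j)
noncomputable def eH_F (x b : Nat) : Bool := blkOK eH_H eH_ch (nat_lit 7) (nat_lit 8) (nat_lit 32) (nat_lit 8) (nat_lit 255) (nat_lit 11) (nat_lit 2047) x b

theorem eH_k0_0 : allFrom (eH_F (nat_lit 0)) (nat_lit 0) (nat_lit 4) = true := by decide +kernel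
theorem eH_k1_0 : allFrom (eH_F (nat_lit 1)) (nat_lit 0) (nat_lit 4) = true := by decide +kernel
theorem eH_k2_0 : allFrom (eH_F (nat_lit 2)) (nat_lit 0) (nat_lit 4) = true := by decide +kernel
theorem eH_k3_0 : allFrom (eH_F (nat_lit 3)) (nat_lit 0) (nat_lit 4) = true := by decide +kernel
theorem eH_k4_0 : allFrom (eH_F (nat_lit 4)) (nat_lit 0) (nat_lit 4) = true := by decide +kernel
theorem eH_k5_0 : allFrom (eH_F (nat_lit 5)) (nat_lit 0) (nat_lit 4) = true := by decide +kernel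
theorem eH_k6_0 : allFrom (eH_F (nat_lit 6)) (nat_lit 0) (nat_lit 4) = true := by decide +kernel
theorem eH_k7_0 : allFrom (eH_F (nat_lit 7)) (nat_lit 0) (nat_lit 4) = true := by decide +kernel

theorem eH_all : Cov eH_F 4 8 0 := by
  have h := Cov.zero eH_F 4
  have h := h.blk (b := 4) eH_k0_0 rfl
  have h := h.next (y := 1) rfl rfl
  have h := h.blk (b := 4) eH_k1_0 rfl
  have h := h.next (y := 2) rfl rfl
  have h := h.blk (b := 4) eH_k2_0 rfl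
  have h := h.next (y := 3) rfl rfl
  have h := h.blk (b := 4) eH_k3_0 rfl
  have h := h.next (y := 4) rfl rfl
  have h := h.blk (b := 4) eH_k4_0 rfl
  have h := h.next (y := 5) rfl rfl
  have h := h.blk (b := 4) eH_k5_0 rfl
  have h := h.next (y := 6) rfl rfl
  have h := h.blk (b := 4) eH_k6_0 rfl
  have h := h.next (y := 7) rfl rfl
  have h := h.blk (b := 4) eH_k7_0 rfl
  have h := h.next (y := 8) rfl rfl
  exact h

theorem eH : Enum RG (gensW 5) (gensW 7) 6 :=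
  ⟨eH_cols, eH_ch, eH_L, eH_H, eH_pb.1, eH_e.get, [(nat_lit 0), (nat_lit 1), (nat_lit 3), (nat_lit 5), (nat_lit 7), (nat_lit 9), (nat_lit 11), (nat_lit 13)], (nat_lit 383), (nat_lit 10), eH_rots, eH_hcs,
    (nat_lit 7), (nat_lit 8), (nat_lit 8), (nat_lit 32), (nat_lit 256), (nat_lit 511), (nat_lit 8), (nat_lit 255), (nat_lit 11), (nat_lit 2047), (nat_lit 1), (nat_lit 4),
    fun _ _ => rfl, fun _ => rfl, fun _ _ => rfl, by decide +kernel, eH_all.1⟩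

noncomputable def eG_c0 : BT (Bx Nat) := (BT.node (nat_lit 1) (BT.leaf (Bx.mk (nat_lit 0x0))) (BT.leaf (Bx.mk (nat_lit 0x3c06803e06374006313c06254582304006263e06273c06702c0629319c722006292da6743c06712fa02823b0283c06353e062a3e06333e062c3e062d3c065e3a06613c06153e06163c06173c061a3e06183c06193a06443c061b3c061c3c061d3e06203a061e3c061f3a06453a06463e060940060a42060b40060e3c060c3c060d000000000000000000000000000000000000000000000000000000000000000000000000000000000000000000000000000000000000000000000000000000000000000000000000000000000000000000000000000000000000000000000000000000000000000000000000000000000000000000000000000000000000000000000000000000000000000000000000000000000000000000000000000000000000000000000000000000000000000000000000000000000000000000000000000000000000000000000000000000000000000000000000000000000000000000000000000000000000000000000000000000))))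
noncomputable def eG_c1 : BT (Bx Nat) := (BT.node (nat_lit 1) (BT.leaf (Bx.mk (nat_lit 0x7472ff66731138d07f6a130e6c5cfbaa125a4654f94812847454f74e12d56e5d126e1260725cf3aa125736546e6e125f265cc1aa1256222a759413329813333412d0a85c532e733e945ce79c29243612da8c12b4a82a529cd066985497527cde5654895012e04c12b63a129f4212a43872e5a85c4d3b886c7e54d73a133d5054f614134092d0d32e72a936129e3672ea8c12c41872ce162acd165ccc125c501012a1182ac91872c81a72c334124e8ea4c58ed0cf1812c7a028c22412ef70d0c0705cbf70d0be70d0bd725d1fa6134a3a12b14c13493e1339aa12424e72dd4e12ac8e5ce43412543c12aa3c72ba70d0b0a072afa85c40761331505cb53c72953e2ab22c12d2aa123e767ca77213233a1296442adb705ca3aa123d1228ca1c54a03c5cdc38d0d1a0549d74549cac033aa0729aa613389c7d159612e13c2aa53a12aba07294a05c93a8283a1ede77707c83aa123834728e34728d302873381288a613345412df3a548b9e12587cd0867ed0854a54f86e1290762882aa122e3a06803612fd80d0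7e84132ba61328a613259c544c9e5464a8542b1c1291287c762012ed2a06292e128caa12282da2712da9053655093412f1a412303812d8a2726ba61319a27c69a27268a25c679a12e2aa12219c1279ac0310ac030d380661707cf470d0f096f778ac03042ba25c76725bac02fa961220a05487ac02f2ac02eea828173672b3a612e9a612e39012461012cbaa12143672c6a612d99a127a8c124594d04aaa1213185c481a724792e2518ed04ba2544472d043ac02b7a27241a612aea27c3fac02a8ac02a2a2723ca25c3ba61292aa120fac028f96721c3672363a0634a2f76c3c0632a2f76aa27c16a6546d7ed02fac02819c121a9e121da61278aa120aac0570ac0272a82a0ea8280bac0567a47224a45c23a42822ac026598de59a6f761a6f760a0d02c941237aa12079e5c2da6f75aa6f759a61255a01231aa1206ac024fac0249a47212a45c11a42810ac0239a61227a6f752a6f751a61226ac022aaa1204a65408ac021bac0215a65405ac0209a87203a85c02ac0601000000))) (BT.leaf (Bx.mk (nat_lit 0x7f7d7b00000000000098de5e000000a96954a95553000000000000000000000000aa12290000000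00000000000a47c34000000a4de3299395c9b3362aa1225a31566000000000000000000000000a8de1fa87c1e000000000000000000000000000000a8de19a87c18000000000000000000000000a75776a75775a8de0da87c0c16133c142b428c554e30131b6e554c38554ba82abb4edeb97073483613219e734670d1457429441a552912134f1a2b41162ad43a7d3f2c12e83cd0d618735074553baa129b4054b8a85c997e133038132088d135a8728a9a5ceb9672ec78d0ad80df377ed12f805d2e84df168e732c86e87d38552a181343a8727c385d1c38731da85c7b9a12e6745ca6a4a522385d473a73367012bc90d11e36132636132732df4da0731aa85c6aa05518a0731782132d9a1298a07314a05d136c12f56412feaa12636cd1076c5cfcaa1262362b0c36290b28130834126f2ad10a6a130f6cd1062a1270aa125d2da30329a3026673016a7300))))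
noncomputable def eG_c2 : BT (Bx Nat) := (BT.node (nat_lit 1) (BT.leaf (Bx.mk (nat_lit 0x2a145daa145b2aca9d1e145caa145a6c3afa1e1477462ef83214c42e153d74f97b26150baa1457743af27c64f17e64f07c64ef2a3ac2301486a864543c14b0981534963ae9406495a83a537415444c14b534152a322f4e9ccae29cca69461520522ebfa8644e943add4414ab7864db4c15491815413e2d3b4e15254414ba3e14b1943ad4a41458183b4f3a15469a6528943acfa61550123b3a163a4faa1448163b4a16e14d16644baa1447341536aa1446342cf78acac32814eeaa14444214a45014df502d474634a6aa14433c14aa46cad64414acaa1442301529ac03484e3ae58c3ab434151d1414a14064d53e3aeba064afa23aaea61545463ab9463adc3e34bbaa143e14e1427614644414bd2a2d1844e0c0aa143d743aa216e0b2ac0340ac033e36ca9e2814fd40e04c6eca9ba0649aa83a3ba4143fa474976e3a963e14e8a06494a61537a234926aca916eca9074ec85286484359a72aa1436ac0335463a7ca43a8992ca8892ca87323aed72148f26148e7a142faa142e74ca813a06f538ca7f80ca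7e7c2e7d44148a903a7ba42e7aa42c79ac0322202cf9aa14291c347521b27424e07332148d202d071c347032150123a503ac031ea4746ca2646ba83a239a14e1a26468a61516a83422a4a265782ca76c3a636c6462ac030a6e2c60ac0306a0f96b2c2eff202efcac02feac02fba82e19a674d3ac02f37e645694141ea614eca614e794ca5294ca5194ca501414cca614de963a4d3e149c1414c8aa141398e049ac02cbac02c7ac02c58cca45ac02c1ac02bcac02b8a26441a83a11a62c98ac02a9ac02a3a2643ca61499a83410a4a2396cca383c0632ac028c9a6415a2f9799e141ba2f97a3e063490ca307cec83ac0282a82e0da82c0ca6742ba6f967ac0276ac056d9a141fa63418aa1409a46424a6146aa61466aa1408a6f9639c3a27963455a6f962aa1407a0ca33a6f95ca61459a41426a6f95baa140698143596ca14ac024aa46412a61440a6143aaa1405a6f954a6142da6142ca6f953aa1404ac0225ac0221ac021cac0216ac020fac020aa86403a83a02ac0601000000))) (BT.leaf (Bx.mk (nat_lit 0x763af5a43432a4e034000000000000976b61a359590000000000000000000000000000000000000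00000aa1428000000a2e05e000000a93b52a93551a8a22a000000000000000000a8e020a8341d000000000000000000000000000000a8e01aa83417000000000000000000000000000000000000a8e00ea8340b000000000000a83ace1614d23014e31414c9402f4c362d4b1414ca4e2edaaa14b64e14be3c64d1a83aad7634e61615391214a81a2cd9aa14a0342d1caa149f30caf634cb3c3c14d81014cd182f43a03b38a83a933664c6aa148b9a64eaa23b3346152690cb317ecb307ecb2f803b2e7ee12d8e652c901513362ee432cab79814d0923b27483b325064d7a23524923b23aa14788c3b2148cae0a03b1faa146d3664b332153fa2351ba0651aa23b192814a5a06517a83a67a47515a06514923b2b6e3b126a3b116a15006ccb0f6e650e1e2f02303b0528e0f4aa14616ce1096c35081e1471aa145f2e150c1a2f0420146e1c150d342e6f6c6510))))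
noncomputable def eG_c3 : BT (Bx Nat) := (BT.node (nat_lit 1) (BT.leaf (Bx.mk (nat_lit 0x2e0f1a520f281c5143564b332a24935298d5480e9a4c2716a8245ba8265a7827493a3e9f100ece400ea9740f47420ea41450ca360e9e8e24ed6e56ec543f0e9656cf320ec69650d44c2500aa0e50320eb4920eda9a5059983e98980e92a00e63a00e62500f106e56dda00e60a00e5f9456e4320eb3a00e5e9a252e960f30500efa940ee8aa0e4aa00e57a00e56320ec4940eea13b4f36c50cd164b350e0f24120eef6c50c90e0f1e160f1b343ee9ac034e344ad0ac034da298c21c0ea1a250c0a256bfa24abeac034c543f0fa250bba256ba500f12425738a23eb77024b67026b5344ae5343ed9aa0e40a224b1a226b07498af3e50aa960e9ba250aca24aab3c0eae424af2a23ea898269ca250a6a24aa54450f03e5114a23ea21e24c11e0f0b380ef4384aeeaa0e3b960ea79824ad4a24f9ac0339960ee2aa0e3aa22496a2269526508d280efb9af0e1a25691a24a90a23e8fa2508e240e94285119aa0e3372248a58270da85632a84a31a6572f800f2ca6572d8098837a9a82843f2ba6252aa62729a824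2fa8262e540f1172267ba8562da84a2caa0e2aa25077200e3ca25075a24a74243e6aa23e72a22471a22670860f1da60f21aa0e26aa0e2536510c220e73a44a69ac03186e2467ac0315a43e65aa0e1da224e0a226df380624a224dca226dba250d898245d98265ca60ef7a60ef6980ee3aa0e16a224d2a226d1983e55960e4d96244ea40e20a40e1eac02e6a40e1b940e53982454a40e1aa40e18ac02d3a40e156e24486e26478b03608b0359aa0e11a42443a42642725641ac02b2a44a3fa4243ea4263d224a76ac029dac0297a43e39a42638a45637a42636a45035a45034ac028ba60e88a60e87aa0e0ba60e7ea60e7da60e7aa60e79aa0e0aac0278a42429a42628a45027ac026dac026cac05666c2423a69822a69a21a65052a30358a64a51ac026498561ca63e4fa6504ca30357a64a4b9a5617ac0258a63e49a82407a82606705012ac0244a69810a69a0fa6500ea6560da64a0cac0230ac022ba63e09aa0e03a60e14a60e13aa0e02a82604ac0208ac0205ac0601000000))) (BT.leaf (Bx.mk (nat_lit 0xa975540000000000000000000000000000000000000000000000000000000000000000000000000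00000000000000000000000aa0e240000000000000000000000000000008c4a460000000000000000000000000000000000008c4a45a4561fa45619000000000000000000000000000000000000120f4f145150aa0ec5aa0ec3aa0ebd3e273fa0514a760ef53e4b177624f1384b46709945729b441a0efd120f3c1e510116513e3c0f4b140f40380f37145142760f22763f31aa0e99400eb83a3f3d6c2536140ecc703f34540efc705732740f3a9826d6a40e86980ed7a40e84824a85820e81a40e80a40e7f543efe704b27545709703f251056cb705723784b3ba8266e704b20540f071056c888266f6a271c183ec73098ff260e8caa0e683c0f484a0ef8aa0e663c0ea3702513524ab956247c524ade520ebc520eeb560e89340e6b2026a037970a520f2674990856571f769b06965705963f04965703964b021c0f414a0ee7))))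
noncomputable def eG_c4 : BT (Bx Nat) := (BT.node (nat_lit 1) (BT.leaf (Bx.mk (nat_lit 0xaa165b1e165d32166eaa165a26165c6c170e4430f91e1675329f3f3216c67adcf526170a7262f37c62f238c27f7236f0aa16562616c134628492c2eca8625392c2ea98173392c2e84062b0a41664189d435031473c173a9cc2659ac2e14e16ba4a79253e36b1a8624d7662dc4216a234c3294c36b632314d489ebf526320a8364e3e169674c3454add4a1417509636d09a632712174612174eaa164812164fa6174f12173baa164716164b349cf68c9ec534171caa1645aa16442862ee42dca34616d7349f2aaa16434616a64036a95030e0aa16424216ac4c9d494a16d93e9d393417218ac2b33c9ca83c16de3e16e78e172ca062ae76c25844c2b87236abaa163e3e16bb3a16b2a617444830bc141740aa163d4016c044dcdbac034216171838629fac033c2a630370769c3e1652a41641a06299a29e98a476974062d46cc295a23694a06293aa16396c3091701681709e8f241686aa1636301672a4768b8ec28a46167ba43088ac033126368e76a0853216edaa162e7a9e2f72c2903a06803616f17ac2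7e829c7da4367c489c8994dc7aac03249430781c9e7722dc76209cf8183674aa1628329e8c24dc71209d092263053430fda29c6dac031ba63717a2626aa4a069a83624a26267aa16219a16e2a676e66c62636ac262ac030bac03086cc25f9adc1f2030fe2830fbac02ffac02fc98fb797416ad7c6257ac02efaa161594c254a616eb40dc9b98dc51aa16141462cba616d5a616dd96dc4c1836c7969e4a969c49ac02ccac02c88e9c46ac02c3ac02c2ac02bdac02b9a6369aa26240a4a03fac02aaac02a4a83612a2623baa160fac02926e9c38933768ac028d9e361e9e3619aa160ca8300d3e0659a67630781682ac0283ac057a9e161b92302bac0575ac0571ac0273a6fb6baa1609a61618a61668a46223aa1608ac0266a6fb6498165e9c1635aa1607ac0562a0c22ca6fb5d9c1634a87825aa1606ac055bac0255ac0250987613a6163ca46211aa1605ac023aa6fb55a61632ac0233aa1604ac0553ac0226ac0222ac021dac0217ac0210ac020ba83603a86202ac0601000000))) (BT.leaf (Bx.mk (nat_lit 0x7f7f7b0000009adc599f3d610000008f6d56aa162a0000000000000000000000000000000000000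00000000000000000a8dc27000000a73d5e901637a72559000000000000a8dc20000000aa161c9d2778000000000000a52769a8dc1a000000000000000000a52767000000000000000000a8dc0e000000aa160a0000000000001636d1a836ca14dccd3016d8a2774c36311a4816d24a16b71817414e16e41436ce7216d3a836a71616e5aa16a11a314816dca53016f7369f3e301736aa169e1436c93e9ce33c16b59e63389e633732c33da29f3590c3349a62e990c332aa16877ec3307cc32f80632e80312d9036af90632b3216be3216daa237289816cfa237264816dfaa167944171f929f223662b45016d6463123a09f1ea2371d3662c4aa166c34174ba0631918dca0a4166ba06316a47715a23714a063136e63121e31046cc3106cc30f6e62fa68c30d2c3101aa166128c2f41e1670aa16606ac3076ac30620166f1c171128169d2231022a170c6a3700))))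
noncomputable def eG_c5 : BT (Bx Nat) := (BT.node (nat_lit 1) (BT.leaf (Bx.mk (nat_lit 0x6a58ff6a591076eafd66190d7670fb6c70fa487e86487ef84ed2e7767ef6367e6faa185726190b7330606a190faa18567458ef6ed25f2398775070b5548edf9058c63418cf1433424c18f7947ee6a858543618d93a7e8b9418979cd26652187c5218eb9a59289a71234470a93ad29e8cd2b33870e4a8324c3f313f7cd2d692d2d52a193ca07b1e3a709f4218a4a8584e3670e9127aa01632cd1618c51670cb1a70ca1832c912184a1858c78e18ea1870cc3418538cd2c32c7106a07ac13a194630eab0aa18434219485019477258bb7458ba721926727ab8728eb74a18a64e18ec34184d8a18daa07eb27258b12e18bfa058afa070ae74d2ad6e1932aa183e6ed2aa4218dc3070957af5224c58b6aa183d4432d12a19183a18961a7ea11018ce3818d23818dba07e9dac033b72d29b82d32fa07099aa183a968ee23c70a22e18a8a8583ca070939c19151eea75aa183870188334588e2a187634588c3818e3a25920a619339a1852aa18304618f9aa182f7eea84727a8f7e7a82807e813a070138d27f84d3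2c828e7d547ee0a6192738186caa182b9a18642018ed2c7a8d1c1891aa18282c8e732e06292a19032bac703418f5387f07a27e583b867aa2586ba2706aaa1822a61914a270679a18e1a28e659c7e78ac0311ac030e3806617018f26c18eea8321a2dac5dac0302ac030078705aa0fd6aa0186dac02f4ac02f0928e1ca618e53670c49c7e88aa181496a650908e46a618d03670b4a618d8aa18131458c890d2451870481a58478e184f8e1849a27e44ac02be745842a25841a27040aa1810ac02abac02a5a61894a2703bac0298a28e39ac02909e5817365836975f75a8320e3c06599e5820aa180bac0287ac0285807e2ea6fd78aa180aac02799ed21dac0572ac0274ac056ca21816ac0568a45824a47023ac0269a47a219c1832a6fd65aa18079c182a901855ac0560a6185ea6fd5eaa18069c1837a47a26ac0559ac0251ac024ba45812a47011ac023fa47a0fa61834a6fd56aa1804ac0231ac022cac0551a67e08ac021eac0218a67e05ac020ca85803a87002ac0601000000))) (BT.leaf (Bx.mk (nat_lit 0x667101000000a96f54a8ea2d0000009b6f64000000000000000000aa18290000000000000000000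00000000000000000000000a2ea59000000aa1825000000a31766a8ea1f0000000000009d2d67000000000000000000a8ea19000000000000000000000000aa1815000000000000a8ea0d000000a77779000000000000aa18091219401a713e3019358a7f4d3e19173a7f2e708f4a36191d447abd527ebc3c58c072d345727b441833431218e81a192a1433503c18d718194f38d33d2c70d4aa189c72d33a9e7f399e71389e713738593432eb4e361936a870897058aca4a7317ed33080189a38194b80eb2d82187e90712b1d874136d3299818dea8707b7458b938711c928f249818dd7818a738191fa0188a3a71219e18d338594936192590f31ba0591aa071192cd2a340594ca071169ef292a85868a071136c1909aa18636818fe6c58f1aa18626870fc36330c2998f3367b0a6e33126ea70836186e2a18c22e71052459042c5871aa185c64fd7baa185b))))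
noncomputable def eG_c6 : BT (Bx Nat) := (BT.node (nat_lit 1) (BT.leaf (Bx.mk (nat_lit 0x2e850c341a6faa1a5a36846e2a1a9d38c47f488485481a811c8541181b436e5b107a5af4725af37c5af26e1b0e7e5ef07c5eef7c90ee345a83981b34501b47a85e54905ab4945ee838852a321b4d8c1ac6a85a53941a589cc4e29ac4e15292b9521abc5085499a5b277c5adc7ac4dba85e4e8cc4c49a9264441abd44c4b8341b2992c4d4321b4e7a84d27c84d18c1ab3a85a4d185ece125b45101ac8125ac71a5aca121b441286cc101acb8e5ee5341a4a8a1ad9341a50a088c2a086c16ec4c0aa1a43301ab04688d75490df705ebbaa1a42501ae0421ad63086b1361b1c361b368e1ae98ec4d0a084b22e1ab73288bea85e41a05aae3c893a6e1b20725eab70c4aa70c4a970c4a83a1b3b721b257292a57288a4725aa3745aa21a84a11c84a0385a9f36c49e2cc4fb3c1b223e89318e1b2ca65b37a09298a08497725a9670c495a05e94a85a3ba08892aa1a381e1a751e1a77241a82345e8d345e8c3d846da61b32a25b1faa1a30961a52aa1a2f461af9aa1a2e321aed265e8e4a84f83a0700361afaac03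2fac032da61b26a65b23aa1a2b381a6c9c844c20928f2b72762090902daa742c9073308672261b0229af043684fe341afc3a1a8b3b8479a61b1aa25a6aa29269a25e68a61b13a28866a29065981ad8ac0312ac030f3806617a846078c45f9a1a1dac0305ac0303ac0301ac02fdaa1a169690e37c5a577e5e568f456ca61aeaa61ae49884873984493688c33b844ba61adaa61acf9a1a78381a4f3686c5361a511088470e1a48380613380614a28444ac02bfac02baa61aafa25a40a2923f72c43e745a3da25e3ca61a93a2883aa29039ac0291aa1a0e365e363a06559e5e17957376aa1a0b9a5e20ac0288ac0286ac0284aa1a0aac0578ac027a9c1a1aac0573ac056e9a1a1cac056aac0569a45e24a45a23a48822a48621981a31aa1a07ac05659c925e9c5a27ac05619e5a2aaa1a06ac055e9c1a34ac0259ac055aac0558ac0557a45e12a45a11a48810a4860fac0237aa1a04ac0556ac0232ac022dac0552a68408ac021fac0219a68405ac020da85e03a85a02ac0601000000))) (BT.leaf (Bx.mk (nat_lit 0x6a5b00a95b539b795b000000000000921a339d5b5d000000000000000000000000000000000000a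a1a28000000909255000000000000000000000000000000a31966000000000000000000000000aa1a1b000000000000aa1a180000009b2f679d2f79000000000000aa1a14aa1a13aa1a0c000000000000a7797aaa1a09000000165f50185b4f3484d33484e6421b2e361b176e914a4e1ade3a1b3f5284eb9e5f46101acd145ec91a84f61889421a1af71a87403c934836873e381b3934c53c3c86a73a1aad3ac53d825f30a41a99385eb5381b1e9a5eec361b21a85e8a3c1a9b801b38aa1a7e44854caa1a7d905e9a901b16361ae736c4d5385f1d981adda85e7c745aa638891ba41a7b3e869c385b33705eaca01a893a8735361b28385ab6361b24a85e6ba05b19a0851838934b925b2ba08515a05f14a85a67aa1a636c93096c1af5aa1a62705ef1681b072c1aff36890b36870a6a1b117889086ac50d76c506aa1a5d261a70aa1a5c285e71aa1a5b69457b))))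
noncomputable def eG_c7 : BT (Bx Nat) := (BT.node (nat_lit 1) (BT.leaf (Bx.mk (nat_lit 0x683cff688afe261cc16a38fc6a38fb6c38fa269676261c736860f76a60f6aa1c5734946f717b7b723912aa1c566e1d0f38c67f36966e221c723c1c9592c6eb963cea92c6e9a83c5492c6e74494ad141d42141d50aa1c4f9cc6e29ac6e168c6e06a60df943cde3e3896526126521d1f18394f188b40aa1c4b7860d77a60d6943cd5a8384d421ca7741d49746147943cd09638cf121d2aaa1c4816394e12393a168d29aa1c47121d3b161d4d8c3cc6341d358ac6c4341d1b2f9f0328c6fdaa1c437038bf3a3d46421ca3468ca4aa1c42743cba4438a942c6aaac034a4a3ca54e38a82ec73c2e1d3ea261396e3cb16cc6b0a23cafa23938421ce6aa1c3e721d32401cb8421cb94c1cb5448ad3aa1c3d481cb6441cbc448abd763923ac0343ac0341301d1d30c721a41c44401c4a426050a83c3ca41c40a09698a060973c1cdd3e3cec7e1d2fa23893a08c921a1c746ec690708a8faa1c3628c686281c849b0557a43c8a8ec6899a1c51461c79261c8d7ec6852a3c8c7e8c837e8a828060813a06f3361cef80c6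7e82947d903c7ca4387b9c6049483c8746c66daa1c29241cf9aa1c281c96912894f8248aed289706241d08321cf4341cee441c789b0558a83c24a63916a29669a61d17a83823a28c66a29465441c586ac6636c3c62ac030cac0309ac0307aa1c18288a5d1c8a5c6a3c5b6c385a9c8a1b463c64ac02f5ac02f19b7b7aa61ce894c653aa1c149c6088401c9bac02e3963c4ea61cd4aa1c13ac02d842609c9a1c7aac02cdac02c938068b38066ca6609dac02c0ac02bba83c12a63899a2963fac02acac02a6a61c9aa83811a28c3aa294396e94383c0655ac028eaa1c0daa1c0c9e3c199e3c1e973f6942062b7ec62f80602e9c1c15ac0579ac0577ac0576ac0277ac0275aa1c09ac056b9a1c1fa61c6ba61c67a48c22a48a21aa1c079c38259c1c32ac0564ac05639a1c59aa1c069c1c33ac025eac055dac055c9e382dac0252ac024ca61c41a61c3ba48c10a48a0faa1c04ac0235ac0234ac0555ac0554ac0227a66008ac0220ac021aa66005ac020ea83c03a83802ac0601000000))) (BT.leaf (Bx.mk (nat_lit 0x7238f39c8c55000000000000aa1c2baa1c2a0000000000000000000000000000000000000000000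00000000000000000000000000000941c310000009b2961000000000000aa1c1d000000000000992b67000000000000000000000000aa1c16000000000000000000981c6c981c8b916175000000aa1c0a000000000000000000163ce4161cda141ccc183cc73e1d1436974baa1cb77660d22a9718721cd1381cbe428b44401d45aa1ca1168ce5aa1ca0161cd93a973f308ab338c73d2c1cb4143cc8101ccba01cb2a01caea03937a23d36368ac5a23d3490c733743cab463d247c953080c6947a392e801d198e3d2c90392b148ace141cca923d28a23927501cdca23925441d31741ca2421d1e2e1c9ea03d205460db44c72232389fa2391c368cc3a23d1a82952d281d48a83c68a41c6aa06115403d4ca23913701cf268c7116cc710703cf06e3d0e6a3d0daa1c61281d01301d05aa1c60269470aa1c5f261c7132390a2695042c1cc21a8b022a8d0b6a3d00))))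
noncomputable def eG_c8 : BT (Bx Nat) := (BT.node (nat_lit 1) (BT.leaf (Bx.mk (nat_lit 0x940b06940b07680a861e0a772ab0766c0a85440a6048b45b2e1f3e320ac5781ef16a0afd741eef6e0afaa0b283a0ac81a0ae82a0b4848e806faa0a52a81eecaa0a51a81eeaaa0a50a81ee844b4bdaa0a4fa81ee550b547920b2b82ad2d52ac78520b32aa0a4ca81ede4e0b248e0ad6aa0a4ba81eda4c1eb6900adc4e0b1eaa0a4aa81ed5420aa42e0b4d3ead39aa0a49a81ed09c0aa1121f46ac0350121f2aaa0a4716b3189caf409cb741aa0a462eb33c9a0ab334b0f7340a8c340a8ea0b2aaa0b0aba0aca8a0aea9a0b6ac9c1f44760b2276ae64400ad33a0b3bac03494e1ee39c0ac69c0a4514b6cd9c0a9ca48295aa0a3fa81eaf9e0a43721e58768331ac0345421ee62c0b3aaa0a3d9eb2b99eacb79eaeb89eb6bb9eb4ba9e0a489a0aca300b1bac033d340a8d9e0a969a0ab0aa0a3aa81e9aac03387eb47da880b19c0a9baa0a39a81e94ac033794b11194ad1094b5129a0b0b9a0b0a9a0b0c8e0b21aa0a30a81e8aac033354acdfa2b0f4a2acf2660b017ab6f576aef36a0b003a0656361e2f7cb1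15ac032eaa0a2ba81e7cac0327ac0325ac032320ad09240b0820b4fe8c0b042cb4ff8c0b053a06283a065c9e806e8c1eedac031fac031caa0a22a81e6bac0319aa0a21a81e68ac0316ac0313740aa68e0a629480389b435f9a805a460af89e0a558b4b6f8e822998825f46b0f99c0a5e7482bc38827fa00a2e9e0a59aa0a14a81e54ac02ebac02e9ac02e7ac02e4aa0a13a81e4eac02ddac02d9ac02d4ac02cfac02ce9c0aa09e0ab4ac02c4380636a00a3e9c0aa7aa0a10a81e41ac02aeac02ad9e0a42aa0a0fa81e3cac0299ac0293940a639e0a319e80619e0a339e0a269e0a259e0a2c9e0a2aac0289a20a57ac057b9c0a349e0a27ac027b9c0a37ac057490805d9c0a329e0a2d9c0a35aa0a08a81e24ac026aac0267a4b21da4b01ea4ac1ba4ae1ca4b620a4b41fa2b217a2b018a2ac15a2ae16a2b61aa2b419ac0253ac024daa0a05a81e12ac0240ac023ba2b20ba2b00ca2ac09a2ae0aa2b60ea2b40dac0223a40a07a20a06ac0211a20a04aa0a01a81e03ac0202000000))) (BT.leaf (Bx.mk (nat_lit 0x9e1e560000000000000000000000008f11680000008c1e5c000000000000000000000000aa0a280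000000000009d476a000000000000000000000000000000000000000000a11162000000000000a101650000009c82360000000000000000000000000000009f015a0000000000000000000000000000000000009f01560000009c1f43aa0ac7300ad1300b4842b0e2360ae1141ec94eb0d8720ad2aa0ab5aa0ab29e1ec0aa0aa39eb2cc9eaecb9a1f4f16b329aa0a9f30b6c3300b352c1ef63cb6a52e0abe2e0b4e8e0b2c7e1f2faa0a8b2e0a9eaa0a88a81f34aa0a87741ebfaa0a7e8082927c1e9738b14b900a98400b4c14b742141ec8aa0a7aa81f28aa0a79a81f264c0ad7500ae078aca28c0b36aa0a6da81f20500adbaa0a6ca81f1d320b3faa0a69a81f1a280b4aaa0a66a81f177a0b30aa0a65a81f148e0b0e8e0b0d8e0b0f900a90900a8f900a91360ac2360ac1360a9d960afc960afb1e0a75260a732a0b03260b028b4b728b4b70680aee6c0af0))))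
noncomputable def eG_c9 : BT (Bx Nat) := (BT.node (nat_lit 1) (BT.leaf (Bx.mk (nat_lit 0x2a08731e08756cbaf498b90998d50870d8f244085a48d85f3208c32a093c780883a00886740882a008857608f56ed9007208f36adb018a086ea608ebaa0852a608e9aa0851a608e7aa08504008a9a608e4aa084f4c08b540094c38d94b52db23520887a608ddaa084c92a8d752d71ea608d9aa084b4c09494ebd2490aadba608d4aa084a42bcb874d74832db4ea608cfaa0849aa08481208b29c09439c09429cbca012094a120929ac034f9ebcb434baf6aa08452e093e398d0c398b0b9c094572093130bb3a4208e67208589c08a39c08a29c08a69c08a49c08a54a08d8ac0347a0a8469cbcc4ac0346a608969cbc9ba608aeaa083faa083e9e08bc9e08bf9e08c09e08bd9e08be9ebc4276d6643a093b44d6d3ac03447609229ebcce9eaa47ac033f30bd35398f0a9ebcb19eaa95a60899aa083a92ab2c7a092ea0a89ca208b0a60893aa08397e092f92bb0d92db0f92d90e36bcc136bc9d36bcc2ac0336a60889aa0830ac0334ac03326abcfd6ebcfa9e08ee9e08f19e08ef9e08f03a062e360857ac03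307c0897a6087baa082bac0328ac03265008e020dafc2808fb20d9072a070228d9062e07033a065d3a06298c08ed9c086fac0320ac031da6086aaa0822ac031aa60867aa0821ac0317ac03147408b996a83890bc639c083646d8f996085b9ebc598e08288b41744608f8980860a0ba557008aca4a82f9d417ba0b85ea60853aa0814ac02ecac02eaac02e8ac02e5a6084daa0813ac02deac02daac02d5ac02d0a0a8a1ac02caac02c69eaab3872366a0bcada0aa3da60840aa0810ac02afa2a843ac02a7a6083baa080fac029aac02949208629ebc2a9b415f9ebc259ebc2da0b8359ebc27a0da37ac028a34087fa2aa56a0ba26a0da32ac027ca0d8318c085cac056fa0d62ca0b834a0d433a60823aa0808ac026bac0268a2081ca2081ba2081fa20820a2081da2081ea00816a00815a00819a0081aa00817a00818ac0254ac024ea60811aa0805ac0241ac023ca0080aa00809a0080da0080ea0080ba0080cac0224a6a807a4aa06ac0212a4a804a60802aa0801ac0203000000))) (BT.leaf (Bx.mk (nat_lit 0xaa082e000000000000000000000000000000935d69aa08290000008cdb030000008cd9028cbc5d0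000000000000000000000009b496c000000000000000000000000a2ff61a31363000000000000a2ff60000000000000000000000000000000000000a0ff59000000000000000000a0ff52000000000000000000000000000000aa08cc98094130bb3930bcd242bb2b36092d2ad918aa08b632db4d4e08e31008cdaa08aa9a08bb9a095012092a9a08c79a08c834db1b2c08f7aa089e2c08c53cd4b72ebca83c08d1aa0898aa08928ebd2132ab3da60933aa088854badf7408ab7cd9157c0937aa087d8008e190bd3894a8e21008cb140940a60927aa087aa60925aa087950b8dcaa087878daba90a88ba6091faa086d50bcd6a6091caa086c32bc9fa60919aa08691408c9a60916aa08667a087ea60913aa086592088f92089192089090bd1090bd1290bd119cd68c9cb88e9cd48d1e087726d87696d6fe96d4ff8eba728ed8742cbd0528bd0468bc846cbc81))))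
noncomputable def eG_c10 : BT (Bx Nat) := (BT.node (nat_lit 1) (BT.leaf (Bx.mk (nat_lit 0xa222fba222fca44f01a448fea446ffa44100a622f8a820f9a622f6a820f7a222f1a222eea222efa222f0a452f5a44cf2a448f3a440f49020ed9e22dd9e22de9e22cf9e22d09e22d49e22d59a48d39e22d99e22da9e22d8a06e989c2292a622dfa820e0a068eba066eca622dba820dca068e4a066e5a052e3a622d6a820d7a068e7a066e89822e6a622d1a820d2a068e9a066eaa222caa222c9a222c7a222c8a468cea452cda448cba446cca222c4a222c3a466c6a448c539930a39910ba222bba222baa222b7a222b8a222b9a452c0a44ebfa448bca446bda440bea622b5a820b6a622b3a820b42e6f18a622b0a820b19c4f139c4114a222a7a222a6a222a2a222a3a222a4a222a5a468ada452aca44ca8a448a9a446aaa440aba622a0a820a1a6229ea8209f39950ca6229ba8209c9c53169c53179e22e2964115a62295a820969c4d199c4f1a9e20e19e4e919c228f9e40909e528e9c228c9e468d8e206c9a227b9a227c9a227a9a2278a22284a22281a44e867a4683784682a44085a6227fa82080a62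27da8207e9c68899c668a9c6e889a226d9c4087a22275a22273a45277a50b70a44876a50b72a62270a82071a6226ea8206f9c6e798c228b9e523b9e463c9e4c399e48409e52419e463a9e403f9a2258a62262a82063a70b5fa6225fa820609a5259a6225ca8205da6225aa8205b98225e9c6e64a62256a82057944655a2224da2224ea2224ca22249a2224aa2224ba46853a46654a45252a44c4fa44650a44051a62247a82048a62245a82046872166a62242a820439c22679c22689c2265a6223da8203e9c226a9c226b9c22669c2269a02038a24e37a02036a25235a25227a24825a24e2da24c2a9e6e2ba6222ea8202fa02232a246269c2230a02231a62228a82029a02234a0222ca022339e22119e22129e220f9e2210a2221aa22219a22215a22216a22217a22218a45220a44e1fa44c1ba4481ca4461da4401ea62213a82014a06823a06624a04821a04622a4520ea44e0da22209a2220aa4460ba4400ca26e05a62206a82007a02208a62004a62202a86603aacc01000000))) (BT.leaf (Bx.mk (nat_lit 0x937169000000a7536fa7516ea64c72a74d6da64074000000a54f73a54f71000000000000000000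000000000000000000000000000000000000000000000000000000a30d59a820610000000000000000000000000000000000000000000000000000000000000000000000000000000000009e234fa06950304f4d2e234e424f383623373a4146a223473e4d39a4694938234a9e2344a06945a22341a22340a45343a44742a2233da2233ca4673fa4493ea2233aa4413b3c234840234c38414b8a231c8a231b9a69279a67289a4f239a4922a2232ea2232da46730a44f2fa6232ba8212ca62329a8212a9823339823349a691f9a67209a491e9823329823318a231d9823259823269823248c69218c67368c49359a22939a22942c22b29a22999a229a9422979a22ae9a22afa2230fa2230da2230ea44f12a44d10a4411136229d3622c13622c2a22307a22306a45309a44708a22303a22302a44f05a44d04a222fda222fa))))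
noncomputable def eG_c11 : BT (Bx Nat) := (BT.node (nat_lit 1) (BT.leaf (Bx.mk (nat_lit 0x5642f060111268bf075c110f56c0f25c4310aa105998c05eaa10589c106478c08636109d10428d54c0ff78428458befb10108c32430c92c0554211344e10d58ec0e82e10aa8cc0cf4c10eb96432e2e10b214114f4c1116a01053a01054aa104ca010524cc0e7421127aa104ba0104f141150326d1848109aaa104aa010504e6cde90eeea9ac130aa1049a010512ec0a38e42d4a010940ec1231211480a114d98111912e5320e6d4e166d39a2beae4ec1249811144e431e2411082242766ceeba6a42c02a114aa2434b506d2868c0bf6ac0bb4cc13336c1372a1146aa10419cc067aa10409cc0683010d9aa103f9cc06586107ba0c0c49ce5156a432042e4a5306cd02e6d1a4042ab94c0976ac12540c0a22a10932c10e93ec0a8aa103c9cc06aaa103b9cc06b3410eeaa103a9cc0664a10e33611359e104e9242adaa10399cc0699e10ca2c42a9a2c04d56be8308c1040843021c1072126cef0e10f3926c788810af9a432c9a112a90428b76c0f15411117aeef554c0910c107458110daa102da0c032aa1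02b9c1030ac032b881113ac03298ac11d96426c18430324bf0b18c1050a108220c0c11a108eaa1027a0c034aa1026a0c02cac0321986c879a109f9a10a19a10969a10b49a10b69a109c9a10b19e6cf7aa101aa01020aa1019aa1018a0101b9610f9aa1017a0101caa1016a0101dac02f8ac02f6aa1015a0101eac02eda4be92a21098a242e0a242d2a242d7a242dcac02e2ac02e1ac02dfac02dbac02d6ac02d1aa10129c1023aa10119c10248b0759aa10109c1021ac02b5ac02b3ac02b0aa100f9c1022ac02a0ac029eac029bac0295a2c00ea6ee35a2c00da0c0379e107192102a9e10809010339e107eaa100aa0100bac027f9e106fac027d901025aa1009a0100cac0270ac026e9810319e42469e42489e423e9e4243a24263a24261a24257a2425ba2425da24260ac0262ac055fac025fac025cac025aac0256aa1005a01008ac0247ac0245ac0242ac023dac0238ac0236a24229a2422fac022eac0228a21014aa1002a41003ac0213a8c001a64207ac0206ac0204000000))) (BT.leaf (Bx.mk (nat_lit 0xa181680000000000000000000000000000009f6774000000000000000000000000000000a16375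0000000000000000000000000000000000000000000000008b1f60000000000000000000000000000000000000a0c01f000000000000000000000000000000891d660000000000000000000000000000000000000000000000001610e41210da0cc0cb0c10c83e113faa10b82810b77ec12f1410c782bf2d2c10be6c11366c111c1a431f0abf3b1a112606c13aa0bf3802113140c14c06112208c14008434214c0cc9ec13d3410bd6e11443411174010dd4e42bc10c0cd04113c98c0e68043479ce4d380c149aa107c981089aa107a9c10884ec0b94410ec18114368c0ac4cc0c31042c904113e9c10796ceea61c6d4150bec588106d6a11453410992c10a49a42ce30c0e532111b4a10d89ac0a79a42c68a108a5e10fc5610815ebf005e10fe5ac0fa561085346cf422c0732411066642fd26110a66c1012210c216c07706c08f1abe750abe9064c1095cc10e))))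
noncomputable def eG_c12 : BT (Bx Nat) := (BT.node (nat_lit 1) (BT.leaf (Bx.mk (nat_lit 0x520cf260cf0f640d09604512560cf0580d0e98ce5eaa0c599c0c64aa0c58780c84320d0c10448c540cfb740c86540cff100c8d36449daa0c5546e7274ecee78e0cd42ecea38c0cea4a0cde960d302e0d1818e7504cce9aaa0c4eaa0c4da00c52aa0c4c4c0cd542cf34a00c4faa0c4b14cf4f326ab24c4516a00c50aa0c4a506aeb8c0ccf9a0d2ea00c51aa0c492e0caa8a0ce8980d190e0d32120d390a0d4ea044940e0d230e6b4d166b48980d144e0d1e9e0cae4a0d2424cf061e0c73680cbf660cbb2ee74636cf374c0d33680cba6a0cc04c0d28ac034b2acf4a9cce67aa0c419cce68aa0c4030cee59cce65aa0c3f8a448aa00cc6900c97660d253e0ca8306ae92a0c933c0ca2980d156a0d20400cab2e6b1a2c0cd03e0ca59cce6aaa0c3c9cce6baa0c3b386af49cce66aa0c3a4aced836cf1ba4c853920ca79cce69aa0c39a2c8ce2c44a4a20c54520c83080d02040d041d0e720e0cf3126aef8e0c878ce7139a452b9e6b29960c6c760cf558450d760cf1540c910d0e7458cf11a0ce32aa0c2da06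a30aa0c2bac032c88ceafac032a9e6b21900c8b140d05200cc1180d030ec882200d0b1fb68ea0ce34aa0c27a0ce2caa0c268acf1d940c789a0c9e9a0ca09a0c959a0cb39a0cb59a0c9b9a0cb09e6af6a00c20aa0c1aa00c1fa00c1baa0c18960cf8a00c1caa0c17a00c1daa0c16ac02f9ac02f7a00c1eaa0c15900ceda244e1a244e2a244dfa244d1a244d6a244dba04498a00c92ac02e0ac02dcac02d7ac02d29c0c23aa0c129c0c24aa0c11870f609c0c21aa0c10ac02b6ac02b4ac02b19c0c22aa0c0fac02a1ac029fac029cac0296aa0c0e9e0c35aa0c0da40c379e0c7092ce319e0c7f9ae6259ece7da00c0baa0c0aac02809e0c6eac027e94c833a00c0caa0c09ac0271ac026f92442a9e44459e44479e443d9e4442a244629f095fa24456a2445aa2445ca2445fac0263ac0261ac0260ac025dac025bac0257a46a08aa0c05ac0248ac0246ac0243ac023ea00c38a00c36a24428a2442eac022fac0229a2ce13a40c03aa0c02ac0214aa0c01a64406ac0207a60c04000000))) (BT.leaf (Bx.mk (nat_lit 0x9f656f000000000000000000000000000000000000000000000000000000000000000000000000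9f657b0000008b1b59000000000000000000000000000000000000000000000000000000000000000000000000880c4400000000000000000000000000000000000000000000000016ceda1644e40c0cc80ccecb3e0d3da00cbd2c44be7e0d2d14cecc7e0d2f2cceb76ccf1c70c9361a4526060d3a1a0d1f060d3b40cf4c0645229c0d3806cf31080d42040d40140cc79e0d3f340cb86ecf4538e6994444ec4a0cb9100cc904cf3e980cd37c0d49940ce6800d47980c89aa0c7c9c4488aa0c7a4e0cbc44cedd1c6b41680ca64c0cc50c0ccd086b3caa0c6d680cac180d434c0cc3880c796e454434cf172c0ca99a44ca300cd93645354ee6e39a0cad9a44c48ace7b62e6fe56ce855a0cfa5ecefc5a0d005ae681300cee220c7628e708620d0126cec2660cfd26450a160c75060c90160c77060c8f640d075c0d10))))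
noncomputable def eG_p : BT (Bx Nat) := (BT.node (nat_lit 1) (BT.leaf (Bx.mk (nat_lit 0xa5b1296c2a5a1a9684a5a0a9681a5932964ba5832960ba571e95c5a570a95c1a561e9585a56129581a552e9489a52229449a51229409a50229403a4f2693c8a4f1e938ba4d2e930ca4c2e9309a4c2292cca4b2e92c9a4b2292c7a4a32928ba4a269288a4a0e924ca492e9249a49229208a481e9204a480a91c9a471e91c4a470a9189a460a9148a45129104a440a90c7a431a90c5a431290c2a421e9086a42129082a4206904ca412e900ca402e9003a3f328fcba3f268fc8a3e228f87a3e168f84a3e0a8f81a3d268f47a3d168f44a3d0a8f41a3c328f0ba3b328ecba3b0e8e8ca3a2e8e89a3a228e85a3a0e8e4ca392e8e49a39228e448381a0e05838060d87836120d828330e0c09830220c06830160bc682f160b8682e120b8282e060b4c82d2e0acc82b2e0ac982b220ac682b160a838291e0a428281e0a05828120a018273209cb82632098b8260e094382226088882216084982122084482106074381a32068b81932060c8182e06078173205cb81632058b8161a058381532054b8151205098142205078141605048140604c98132204c78131604c281306048c8122e044c8112e044381032040b8102604088101603cc80f2e03c980f2203c480f05838b60e19834b60d1d830760c1182c660b1582c360a31828b60a19828560a0d828160931824b6091d82446090982096082182046080981c76071981c56071181c260705818760619818560611818260605814c6052d81496052181446050901074041901054041101024040500c340231008b4020c804b201248048000000000)))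 (BT.leaf (Bx.mk (nat_lit 0x82e220b4482c1e0b0682b1e0a8782a120a488291a0a45829120a41828260a068280a09c58261e09868251a094582506090381e1a074781c1e070481b1a06c58192e06068171e058781612054681516050681319830660b1d828760a118246609173308cc7273143cc30f2f43cb8332dc7cb6232d82cb5272c89caa2328c9ca11f2844ca01f2802c9f2727c2c9e232784c9c1726c1c990f2608c9222a2c9a8b0aa209a8822a1c9a87129f89a7e1a9f48a7d1a9f0ca7c2e9e8ca7a2e9e89a7a229e49a79229e44a78229e02a6d2e9b49a6d229b42a6c269b08a6c129a49a69229a03a66269988a660e9949a652298c6a631698c1a621a9885a62069847a61129842a601e9804a5f1e97c2a5d1a9741a5c1a9705a5b1a96c5))))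
noncomputable def eG_e0 : BT Nat := (BT.node (nat_lit 8200) (BT.node (nat_lit 4486) (BT.node (nat_lit 3140) (BT.node (nat_lit 69) (BT.node (nat_lit 67) (BT.node (nat_lit 66) (BT.leaf (nat_lit 1572866)) (BT.leaf (nat_lit 1310722))) (BT.node (nat_lit 68) (BT.leaf (nat_lit 1048578)) (BT.leaf (nat_lit 786434)))) (BT.node (nat_lit 71) (BT.node (nat_lit 70) (BT.leaf (nat_lit 524290)) (BT.leaf (nat_lit 262146))) (BT.node (nat_lit 3079) (BT.leaf (nat_lit 2)) (BT.node (nat_lit 3138) (BT.leaf (nat_lit 1500)) (BT.leaf (nat_lit 1508)))))) (BT.node (nat_lit 3522) (BT.node (nat_lit 3269) (BT.node (nat_lit 3265) (BT.leaf (nat_lit 1508)) (BT.leaf (nat_lit 1448))) (BT.node (nat_lit 3393) (BT.leaf (nat_lit 1448)) (BT.node (nat_lit 3398) (BT.leaf (nat_lit 1456)) (BT.leaf (nat_lit 1456))))) (BT.node (nat_lit 4360) (BT.node (nat_lit 3527) (BT.leaf (nat_lit 1512)) (BT.leaf (nat_lit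 1512))) (BT.node (nat_lit 4422) (BT.leaf (nat_lit 1404)) (BT.node (nat_lit 4423) (BT.leaf (nat_lit 1376)) (BT.leaf (nat_lit 1376))))))) (BT.node (nat_lit 7301) (BT.node (nat_lit 6214) (BT.node (nat_lit 6209) (BT.node (nat_lit 4487) (BT.leaf (nat_lit 1372)) (BT.leaf (nat_lit 1372))) (BT.node (nat_lit 6211) (BT.leaf (nat_lit 1432)) (BT.node (nat_lit 6213) (BT.leaf (nat_lit 1432)) (BT.leaf (nat_lit 1432))))) (BT.node (nat_lit 7177) (BT.node (nat_lit 7176) (BT.leaf (nat_lit 1432)) (BT.leaf (nat_lit 1488))) (BT.node (nat_lit 7240) (BT.leaf (nat_lit 1488)) (BT.node (nat_lit 7241) (BT.leaf (nat_lit 1468)) (BT.leaf (nat_lit 1468)))))) (BT.node (nat_lit 8194) (BT.node (nat_lit 7425) (BT.node (nat_lit 7305) (BT.leaf (nat_lit 1480)) (BT.leaf (nat_lit 1480))) (BT.node (nat_lit 7433) (BT.leaf (nat_lit 1472)) (BT.node (nat_lit 8193) (BT.leaf (nat_lit 1472)) (BT.leaf (nat_lit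 1516))))) (BT.node (nat_lit 8197) (BT.node (nat_lit 8196) (BT.leaf (nat_lit 1516)) (BT.leaf (nat_lit 1516))) (BT.node (nat_lit 8198) (BT.leaf (nat_lit 1516)) (BT.node (nat_lit 8199) (BT.leaf (nat_lit 1516)) (BT.leaf (nat_lit 1516)))))))) (BT.node (nat_lit 22720) (BT.node (nat_lit 22080) (BT.node (nat_lit 21760) (BT.node (nat_lit 21568) (BT.node (nat_lit 8201) (BT.leaf (nat_lit 1516)) (BT.leaf (nat_lit 1516))) (BT.node (nat_lit 21632) (BT.leaf (nat_lit 87573)) (BT.node (nat_lit 21696) (BT.leaf (nat_lit 87577)) (BT.leaf (nat_lit 87049))))) (BT.node (nat_lit 21888) (BT.node (nat_lit 21824) (BT.leaf (nat_lit 96013)) (BT.leaf (nat_lit 87069))) (BT.node (nat_lit 21952) (BT.leaf (nat_lit 95761)) (BT.node (nat_lit 22016) (BT.leaf (nat_lit 90125)) (BT.leaf (nat_lit 88333)))))) (BT.node (nat_lit 22400) (BT.node (nat_lit 22208) (BT.node (nat_lit 22144) (BT.leaf (nat_lit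 90373)) (BT.leaf (nat_lit 88353))) (BT.node (nat_lit 22272) (BT.leaf (nat_lit 96537)) (BT.node (nat_lit 22336) (BT.leaf (nat_lit 91165)) (BT.leaf (nat_lit 95513))))) (BT.node (nat_lit 22528) (BT.node (nat_lit 22464) (BT.leaf (nat_lit 90393)) (BT.leaf (nat_lit 88369))) (BT.node (nat_lit 22592) (BT.leaf (nat_lit 90405)) (BT.node (nat_lit 22656) (BT.leaf (nat_lit 95753)) (BT.leaf (nat_lit 91169))))))) (BT.node (nat_lit 23488) (BT.node (nat_lit 23040) (BT.node (nat_lit 22848) (BT.node (nat_lit 22784) (BT.leaf (nat_lit 91173)) (BT.leaf (nat_lit 95765))) (BT.node (nat_lit 22912) (BT.leaf (nat_lit 90401)) (BT.node (nat_lit 22976) (BT.leaf (nat_lit 88365)) (BT.leaf (nat_lit 90397))))) (BT.node (nat_lit 23168) (BT.node (nat_lit 23104) (BT.leaf (nat_lit 95777)) (BT.leaf (nat_lit 95785))) (BT.node (nat_lit 23232) (BT.leaf (nat_lit 95769)) (BT.node (nat_lit 23296) (BT.leaf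 (nat_lit 95773)) (BT.leaf (nat_lit 92709)))))) (BT.node (nat_lit 23936) (BT.node (nat_lit 23744) (BT.node (nat_lit 23616) (BT.leaf (nat_lit 95537)) (BT.leaf (nat_lit 93481))) (BT.node (nat_lit 23808) (BT.leaf (nat_lit 93737)) (BT.node (nat_lit 23872) (BT.leaf (nat_lit 95533)) (BT.leaf (nat_lit 86789))))) (BT.node (nat_lit 24128) (BT.node (nat_lit 24064) (BT.leaf (nat_lit 87045)) (BT.leaf (nat_lit 90385))) (BT.node (nat_lit 24192) (BT.leaf (nat_lit 87061)) (BT.node (nat_lit 24256) (BT.leaf (nat_lit 86809)) (BT.leaf (nat_lit 92209)))))))))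
noncomputable def eG_e : BT Nat := eG_e0
noncomputable def eG_cols : List (BT (Bx Nat)) := [eG_c0, eG_c1, eG_c2, eG_c3, eG_c4, eG_c5, eG_c6, eG_c7, eG_c8, eG_c9, eG_c10, eG_c11, eG_c12]
noncomputable def eG_ch (x j : Nat) : Bx Nat := chunkG eG_cols (nat_lit 2) x j
noncomputable def eG_L (x : Nat) : Bx (Nat → Nat) := lookG eG_ch (nat_lit 8) (nat_lit 255) (nat_lit 24) (nat_lit 16777215) x
noncomputable def eG_pc (_ j : Nat) : Bx Nat := eG_p.get j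
noncomputable def eG_pb : Bx (Nat → Nat) := lookG eG_pc (nat_lit 8) (nat_lit 255) (nat_lit 18) (nat_lit 262143) (nat_lit 0)
noncomputable def eG_rots : BT CW := (BT.node (nat_lit 109) (BT.node (nat_lit 54) (BT.node (nat_lit 27) (BT.node (nat_lit 13) (BT.node (nat_lit 6) (BT.node (nat_lit 3) (BT.node (nat_lit 1) (BT.leaf ⟨[], (nat_lit 1000000), (nat_lit 0), (nat_lit 0), (nat_lit 0)⟩) (BT.node (nat_lit 2) (BT.leaf ⟨[], (nat_lit 1000000), (nat_lit 0), (nat_lit 0), (nat_lit 1)⟩) (BT.leaf ⟨[], (nat_lit 1000000), (nat_lit 0), (nat_lit 0), (nat_lit 2)⟩))) (BT.node (nat_lit 4) (BT.leaf ⟨[(nat_lit 9), (nat_lit 8)], (nat_lit 48), (nat_lit 1), (nat_lit 0), (nat_lit 3)⟩) (BT.node (nat_lit 5) (BT.leaf ⟨[(nat_lit 8), (nat_lit 9)], (nat_lit 48), (nat_lit 0), (nat_lit 0), (nat_lit 3)⟩) (BT.leaf ⟨[(nat_lit 12), (nat_lit 11)], (nat_lit 46), (nat_lit 1), (nat_lit 0), (nat_lit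 3)⟩)))) (BT.node (nat_lit 9) (BT.node (nat_lit 7) (BT.leaf ⟨[(nat_lit 3), (nat_lit 3)], (nat_lit 2), (nat_lit 0), (nat_lit 0), (nat_lit 3)⟩) (BT.node (nat_lit 8) (BT.leaf ⟨[(nat_lit 11), (nat_lit 12)], (nat_lit 46), (nat_lit 0), (nat_lit 0), (nat_lit 3)⟩) (BT.leaf ⟨[(nat_lit 1), (nat_lit 1)], (nat_lit 0), (nat_lit 0), (nat_lit 0), (nat_lit 3)⟩))) (BT.node (nat_lit 11) (BT.node (nat_lit 10) (BT.leaf ⟨[(nat_lit 2), (nat_lit 2)], (nat_lit 1), (nat_lit 0), (nat_lit 0), (nat_lit 3)⟩) (BT.leaf ⟨[(nat_lit 4), (nat_lit 4)], (nat_lit 3), (nat_lit 0), (nat_lit 0), (nat_lit 3)⟩)) (BT.node (nat_lit 12) (BT.leaf ⟨[(nat_lit 5), (nat_lit 5)], (nat_lit 4), (nat_lit 0), (nat_lit 0), (nat_lit 3)⟩) (BT.leaf ⟨[(nat_lit 6), (nat_lit 6)], (nat_lit 15), (nat_lit 0), (nat_lit 0), (nat_lit 3)⟩))))) (BT.node (nat_lit 20) (BT.node (nat_lit 16) (BT.node (nat_lit 14) (BT.leaf ⟨[(nat_lit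 7), (nat_lit 7)], (nat_lit 16), (nat_lit 0), (nat_lit 0), (nat_lit 3)⟩) (BT.node (nat_lit 15) (BT.leaf ⟨[(nat_lit 8), (nat_lit 8), (nat_lit 8)], (nat_lit 28), (nat_lit 0), (nat_lit 0), (nat_lit 3)⟩) (BT.leaf ⟨[(nat_lit 10), (nat_lit 11), (nat_lit 11)], (nat_lit 42), (nat_lit 2), (nat_lit 0), (nat_lit 3)⟩))) (BT.node (nat_lit 18) (BT.node (nat_lit 17) (BT.leaf ⟨[(nat_lit 10), (nat_lit 10)], (nat_lit 29), (nat_lit 0), (nat_lit 0), (nat_lit 3)⟩) (BT.leaf ⟨[(nat_lit 3), (nat_lit 11), (nat_lit 3), (nat_lit 12)], (nat_lit 44), (nat_lit 3), (nat_lit 0), (nat_lit 3)⟩)) (BT.node (nat_lit 19) (BT.leaf ⟨[(nat_lit 3), (nat_lit 12), (nat_lit 3), (nat_lit 11)], (nat_lit 44), (nat_lit 1), (nat_lit 0), (nat_lit 3)⟩) (BT.leaf ⟨[(nat_lit 1), (nat_lit 4), (nat_lit 1), (nat_lit 4)], (nat_lit 10), (nat_lit 0), (nat_lit 0), (nat_lit 3)⟩)))) (BT.node (nat_lit 23) (BT.node (nat_lit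 21) (BT.leaf ⟨[(nat_lit 1), (nat_lit 7), (nat_lit 1), (nat_lit 7)], (nat_lit 19), (nat_lit 0), (nat_lit 0), (nat_lit 3)⟩) (BT.node (nat_lit 22) (BT.leaf ⟨[(nat_lit 2), (nat_lit 5), (nat_lit 2), (nat_lit 5)], (nat_lit 13), (nat_lit 0), (nat_lit 0), (nat_lit 3)⟩) (BT.leaf ⟨[(nat_lit 2), (nat_lit 6), (nat_lit 2), (nat_lit 6)], (nat_lit 20), (nat_lit 0), (nat_lit 0), (nat_lit 3)⟩))) (BT.node (nat_lit 25) (BT.node (nat_lit 24) (BT.leaf ⟨[(nat_lit 4), (nat_lit 6), (nat_lit 4), (nat_lit 6)], (nat_lit 24), (nat_lit 0), (nat_lit 0), (nat_lit 3)⟩) (BT.leaf ⟨[(nat_lit 5), (nat_lit 7), (nat_lit 5), (nat_lit 7)], (nat_lit 27), (nat_lit 0), (nat_lit 0), (nat_lit 3)⟩)) (BT.node (nat_lit 26) (BT.leaf ⟨[(nat_lit 2), (nat_lit 4), (nat_lit 2), (nat_lit 4)], (nat_lit 12), (nat_lit 0), (nat_lit 0), (nat_lit 3)⟩) (BT.leaf ⟨[(nat_lit 4), (nat_lit 8), (nat_lit 2), (nat_lit 9)], (nat_lit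 32), (nat_lit 3), (nat_lit 0), (nat_lit 3)⟩)))))) (BT.node (nat_lit 40) (BT.node (nat_lit 33) (BT.node (nat_lit 30) (BT.node (nat_lit 28) (BT.leaf ⟨[(nat_lit 7), (nat_lit 9), (nat_lit 2), (nat_lit 8)], (nat_lit 36), (nat_lit 1), (nat_lit 0), (nat_lit 3)⟩) (BT.node (nat_lit 29) (BT.leaf ⟨[(nat_lit 2), (nat_lit 9), (nat_lit 4), (nat_lit 8)], (nat_lit 32), (nat_lit 1), (nat_lit 0), (nat_lit 3)⟩) (BT.leaf ⟨[(nat_lit 7), (nat_lit 8), (nat_lit 4), (nat_lit 9)], (nat_lit 34), (nat_lit 3), (nat_lit 0), (nat_lit 3)⟩))) (BT.node (nat_lit 31) (BT.leaf ⟨[(nat_lit 3), (nat_lit 1), (nat_lit 3), (nat_lit 1)], (nat_lit 9), (nat_lit 1), (nat_lit 0), (nat_lit 3)⟩) (BT.node (nat_lit 32) (BT.leaf ⟨[(nat_lit 10), (nat_lit 5), (nat_lit 10), (nat_lit 1)], (nat_lit 37), (nat_lit 2), (nat_lit 0), (nat_lit 3)⟩) (BT.leaf ⟨[(nat_lit 11), (nat_lit 11), (nat_lit 10)], (nat_lit 42), (nat_lit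 0), (nat_lit 0), (nat_lit 3)⟩)))) (BT.node (nat_lit 36) (BT.node (nat_lit 34) (BT.leaf ⟨[(nat_lit 12), (nat_lit 12), (nat_lit 10)], (nat_lit 98), (nat_lit 1), (nat_lit 0), (nat_lit 3)⟩) (BT.node (nat_lit 35) (BT.leaf ⟨[(nat_lit 10), (nat_lit 4), (nat_lit 10), (nat_lit 2)], (nat_lit 38), (nat_lit 2), (nat_lit 0), (nat_lit 3)⟩) (BT.leaf ⟨[(nat_lit 10), (nat_lit 2), (nat_lit 10), (nat_lit 4)], (nat_lit 38), (nat_lit 0), (nat_lit 0), (nat_lit 3)⟩))) (BT.node (nat_lit 38) (BT.node (nat_lit 37) (BT.leaf ⟨[(nat_lit 3), (nat_lit 5), (nat_lit 3), (nat_lit 5)], (nat_lit 14), (nat_lit 0), (nat_lit 0), (nat_lit 3)⟩) (BT.leaf ⟨[(nat_lit 10), (nat_lit 1), (nat_lit 10), (nat_lit 5)], (nat_lit 37), (nat_lit 0), (nat_lit 0), (nat_lit 3)⟩)) (BT.node (nat_lit 39) (BT.leaf ⟨[(nat_lit 10), (nat_lit 6), (nat_lit 10), (nat_lit 6)], (nat_lit 39), (nat_lit 0), (nat_lit 0), (nat_lit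 3)⟩) (BT.leaf ⟨[(nat_lit 3), (nat_lit 7), (nat_lit 3), (nat_lit 7)], (nat_lit 23), (nat_lit 0), (nat_lit 0), (nat_lit 3)⟩))))) (BT.node (nat_lit 47) (BT.node (nat_lit 43) (BT.node (nat_lit 41) (BT.leaf ⟨[(nat_lit 10), (nat_lit 7), (nat_lit 10), (nat_lit 7)], (nat_lit 40), (nat_lit 0), (nat_lit 0), (nat_lit 3)⟩) (BT.node (nat_lit 42) (BT.leaf ⟨[(nat_lit 1), (nat_lit 3), (nat_lit 1), (nat_lit 3)], (nat_lit 9), (nat_lit 0), (nat_lit 0), (nat_lit 3)⟩) (BT.leaf ⟨[(nat_lit 3), (nat_lit 6), (nat_lit 3), (nat_lit 6)], (nat_lit 22), (nat_lit 0), (nat_lit 0), (nat_lit 3)⟩))) (BT.node (nat_lit 45) (BT.node (nat_lit 44) (BT.leaf ⟨[(nat_lit 5), (nat_lit 8), (nat_lit 1), (nat_lit 9)], (nat_lit 31), (nat_lit 3), (nat_lit 0), (nat_lit 3)⟩) (BT.leaf ⟨[(nat_lit 6), (nat_lit 9), (nat_lit 1), (nat_lit 8)], (nat_lit 35), (nat_lit 1), (nat_lit 0), (nat_lit 3)⟩)) (BT.node (nat_lit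 46) (BT.leaf ⟨[(nat_lit 1), (nat_lit 9), (nat_lit 5), (nat_lit 8)], (nat_lit 31), (nat_lit 1), (nat_lit 0), (nat_lit 3)⟩) (BT.leaf ⟨[(nat_lit 6), (nat_lit 8), (nat_lit 5), (nat_lit 9)], (nat_lit 33), (nat_lit 3), (nat_lit 0), (nat_lit 3)⟩)))) (BT.node (nat_lit 50) (BT.node (nat_lit 48) (BT.leaf ⟨[(nat_lit 7), (nat_lit 3), (nat_lit 7), (nat_lit 3)], (nat_lit 23), (nat_lit 1), (nat_lit 0), (nat_lit 3)⟩) (BT.node (nat_lit 49) (BT.leaf ⟨[(nat_lit 4), (nat_lit 9), (nat_lit 7), (nat_lit 8)], (nat_lit 34), (nat_lit 1), (nat_lit 0), (nat_lit 3)⟩) (BT.leaf ⟨[(nat_lit 2), (nat_lit 8), (nat_lit 7), (nat_lit 9)], (nat_lit 36), (nat_lit 3), (nat_lit 0), (nat_lit 3)⟩))) (BT.node (nat_lit 52) (BT.node (nat_lit 51) (BT.leaf ⟨[(nat_lit 10), (nat_lit 8), (nat_lit 10), (nat_lit 8)], (nat_lit 30), (nat_lit 1), (nat_lit 0), (nat_lit 3)⟩) (BT.leaf ⟨[(nat_lit 10), (nat_lit 9), (nat_lit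 10), (nat_lit 9)], (nat_lit 86), (nat_lit 0), (nat_lit 0), (nat_lit 3)⟩)) (BT.node (nat_lit 53) (BT.leaf ⟨[(nat_lit 12), (nat_lit 3), (nat_lit 11), (nat_lit 3)], (nat_lit 44), (nat_lit 2), (nat_lit 0), (nat_lit 3)⟩) (BT.leaf ⟨[(nat_lit 11), (nat_lit 3), (nat_lit 12), (nat_lit 3)], (nat_lit 44), (nat_lit 0), (nat_lit 0), (nat_lit 3)⟩))))))) (BT.node (nat_lit 81) (BT.node (nat_lit 67) (BT.node (nat_lit 60) (BT.node (nat_lit 57) (BT.node (nat_lit 55) (BT.leaf ⟨[(nat_lit 10), (nat_lit 12), (nat_lit 12)], (nat_lit 98), (nat_lit 0), (nat_lit 0), (nat_lit 3)⟩) (BT.node (nat_lit 56) (BT.leaf ⟨[(nat_lit 5), (nat_lit 9), (nat_lit 6), (nat_lit 8)], (nat_lit 33), (nat_lit 1), (nat_lit 0), (nat_lit 3)⟩) (BT.leaf ⟨[(nat_lit 1), (nat_lit 8), (nat_lit 6), (nat_lit 9)], (nat_lit 35), (nat_lit 3), (nat_lit 0), (nat_lit 3)⟩))) (BT.node (nat_lit 58) (BT.leaf ⟨[(nat_lit 2), (nat_lit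 3), (nat_lit 2), (nat_lit 3), (nat_lit 2), (nat_lit 3)], (nat_lit 6), (nat_lit 0), (nat_lit 0), (nat_lit 3)⟩) (BT.node (nat_lit 59) (BT.leaf ⟨[(nat_lit 4), (nat_lit 3), (nat_lit 4), (nat_lit 3), (nat_lit 4), (nat_lit 3)], (nat_lit 7), (nat_lit 1), (nat_lit 0), (nat_lit 3)⟩) (BT.leaf ⟨[(nat_lit 4), (nat_lit 2), (nat_lit 1), (nat_lit 12), (nat_lit 8), (nat_lit 11), (nat_lit 5)], (nat_lit 101), (nat_lit 3), (nat_lit 0), (nat_lit 3)⟩)))) (BT.node (nat_lit 63) (BT.node (nat_lit 61) (BT.leaf ⟨[(nat_lit 5), (nat_lit 2), (nat_lit 5), (nat_lit 2)], (nat_lit 13), (nat_lit 1), (nat_lit 0), (nat_lit 3)⟩) (BT.node (nat_lit 62) (BT.leaf ⟨[(nat_lit 1), (nat_lit 5), (nat_lit 1), (nat_lit 5)], (nat_lit 11), (nat_lit 0), (nat_lit 0), (nat_lit 3)⟩) (BT.leaf ⟨[(nat_lit 5), (nat_lit 3), (nat_lit 5), (nat_lit 3)], (nat_lit 14), (nat_lit 1), (nat_lit 0), (nat_lit 3)⟩))) (BT.node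 (nat_lit 65) (BT.node (nat_lit 64) (BT.leaf ⟨[(nat_lit 8), (nat_lit 11), (nat_lit 5), (nat_lit 4), (nat_lit 2), (nat_lit 1), (nat_lit 12)], (nat_lit 101), (nat_lit 0), (nat_lit 0), (nat_lit 3)⟩) (BT.leaf ⟨[(nat_lit 8), (nat_lit 10), (nat_lit 8), (nat_lit 10)], (nat_lit 30), (nat_lit 0), (nat_lit 0), (nat_lit 3)⟩)) (BT.node (nat_lit 66) (BT.leaf ⟨[(nat_lit 6), (nat_lit 3), (nat_lit 6), (nat_lit 3)], (nat_lit 22), (nat_lit 1), (nat_lit 0), (nat_lit 3)⟩) (BT.leaf ⟨[(nat_lit 6), (nat_lit 2), (nat_lit 6), (nat_lit 2)], (nat_lit 20), (nat_lit 1), (nat_lit 0), (nat_lit 3)⟩))))) (BT.node (nat_lit 74) (BT.node (nat_lit 70) (BT.node (nat_lit 68) (BT.leaf ⟨[(nat_lit 6), (nat_lit 4), (nat_lit 6), (nat_lit 4)], (nat_lit 24), (nat_lit 1), (nat_lit 0), (nat_lit 3)⟩) (BT.node (nat_lit 69) (BT.leaf ⟨[(nat_lit 7), (nat_lit 2), (nat_lit 7), (nat_lit 2)], (nat_lit 21), (nat_lit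 1), (nat_lit 0), (nat_lit 3)⟩) (BT.leaf ⟨[(nat_lit 7), (nat_lit 4), (nat_lit 7), (nat_lit 4)], (nat_lit 25), (nat_lit 1), (nat_lit 0), (nat_lit 3)⟩))) (BT.node (nat_lit 72) (BT.node (nat_lit 71) (BT.leaf ⟨[(nat_lit 5), (nat_lit 1), (nat_lit 5), (nat_lit 1)], (nat_lit 11), (nat_lit 1), (nat_lit 0), (nat_lit 3)⟩) (BT.leaf ⟨[(nat_lit 6), (nat_lit 1), (nat_lit 6), (nat_lit 1)], (nat_lit 18), (nat_lit 1), (nat_lit 0), (nat_lit 3)⟩)) (BT.node (nat_lit 73) (BT.leaf ⟨[(nat_lit 6), (nat_lit 5), (nat_lit 6), (nat_lit 5)], (nat_lit 26), (nat_lit 1), (nat_lit 0), (nat_lit 3)⟩) (BT.leaf ⟨[(nat_lit 7), (nat_lit 1), (nat_lit 7), (nat_lit 1)], (nat_lit 19), (nat_lit 1), (nat_lit 0), (nat_lit 3)⟩)))) (BT.node (nat_lit 77) (BT.node (nat_lit 75) (BT.leaf ⟨[(nat_lit 7), (nat_lit 5), (nat_lit 7), (nat_lit 5)], (nat_lit 27), (nat_lit 1), (nat_lit 0), (nat_lit 3)⟩) (BT.node (nat_lit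 76) (BT.leaf ⟨[(nat_lit 3), (nat_lit 4), (nat_lit 3), (nat_lit 4), (nat_lit 3), (nat_lit 4)], (nat_lit 7), (nat_lit 0), (nat_lit 0), (nat_lit 3)⟩) (BT.leaf ⟨[(nat_lit 3), (nat_lit 2), (nat_lit 3), (nat_lit 2), (nat_lit 3), (nat_lit 2)], (nat_lit 6), (nat_lit 1), (nat_lit 0), (nat_lit 3)⟩))) (BT.node (nat_lit 79) (BT.node (nat_lit 78) (BT.leaf ⟨[(nat_lit 4), (nat_lit 1), (nat_lit 4), (nat_lit 1)], (nat_lit 10), (nat_lit 1), (nat_lit 0), (nat_lit 3)⟩) (BT.leaf ⟨[(nat_lit 4), (nat_lit 2), (nat_lit 4), (nat_lit 2)], (nat_lit 12), (nat_lit 1), (nat_lit 0), (nat_lit 3)⟩)) (BT.node (nat_lit 80) (BT.leaf ⟨[(nat_lit 4), (nat_lit 5), (nat_lit 4), (nat_lit 5), (nat_lit 4), (nat_lit 5)], (nat_lit 8), (nat_lit 0), (nat_lit 0), (nat_lit 3)⟩) (BT.leaf ⟨[(nat_lit 2), (nat_lit 1), (nat_lit 2), (nat_lit 1), (nat_lit 2), (nat_lit 1)], (nat_lit 5), (nat_lit 1), (nat_lit 0), (nat_lit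 3)⟩)))))) (BT.node (nat_lit 95) (BT.node (nat_lit 88) (BT.node (nat_lit 84) (BT.node (nat_lit 82) (BT.leaf ⟨[(nat_lit 1), (nat_lit 2), (nat_lit 1), (nat_lit 2), (nat_lit 1), (nat_lit 2)], (nat_lit 5), (nat_lit 0), (nat_lit 0), (nat_lit 3)⟩) (BT.node (nat_lit 83) (BT.leaf ⟨[(nat_lit 5), (nat_lit 4), (nat_lit 5), (nat_lit 4), (nat_lit 5), (nat_lit 4)], (nat_lit 8), (nat_lit 1), (nat_lit 0), (nat_lit 3)⟩) (BT.leaf ⟨[(nat_lit 9), (nat_lit 11), (nat_lit 1), (nat_lit 2), (nat_lit 4), (nat_lit 5), (nat_lit 12)], (nat_lit 45), (nat_lit 6), (nat_lit 0), (nat_lit 3)⟩))) (BT.node (nat_lit 86) (BT.node (nat_lit 85) (BT.leaf ⟨[(nat_lit 9), (nat_lit 10), (nat_lit 9), (nat_lit 10)], (nat_lit 86), (nat_lit 1), (nat_lit 0), (nat_lit 3)⟩) (BT.leaf ⟨[(nat_lit 8), (nat_lit 1), (nat_lit 9), (nat_lit 5)], (nat_lit 31), (nat_lit 0), (nat_lit 0), (nat_lit 3)⟩)) (BT.node (nat_lit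 87) (BT.leaf ⟨[(nat_lit 8), (nat_lit 2), (nat_lit 9), (nat_lit 4)], (nat_lit 32), (nat_lit 0), (nat_lit 0), (nat_lit 3)⟩) (BT.leaf ⟨[(nat_lit 8), (nat_lit 5), (nat_lit 9), (nat_lit 6)], (nat_lit 33), (nat_lit 0), (nat_lit 0), (nat_lit 3)⟩)))) (BT.node (nat_lit 91) (BT.node (nat_lit 89) (BT.leaf ⟨[(nat_lit 8), (nat_lit 4), (nat_lit 9), (nat_lit 7)], (nat_lit 34), (nat_lit 0), (nat_lit 0), (nat_lit 3)⟩) (BT.node (nat_lit 90) (BT.leaf ⟨[(nat_lit 8), (nat_lit 6), (nat_lit 9), (nat_lit 1)], (nat_lit 35), (nat_lit 0), (nat_lit 0), (nat_lit 3)⟩) (BT.leaf ⟨[(nat_lit 8), (nat_lit 7), (nat_lit 9), (nat_lit 2)], (nat_lit 36), (nat_lit 0), (nat_lit 0), (nat_lit 3)⟩))) (BT.node (nat_lit 93) (BT.node (nat_lit 92) (BT.leaf ⟨[(nat_lit 9), (nat_lit 7), (nat_lit 8), (nat_lit 4)], (nat_lit 34), (nat_lit 2), (nat_lit 0), (nat_lit 3)⟩) (BT.leaf ⟨[(nat_lit 9), (nat_lit 1), (nat_lit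 8), (nat_lit 6)], (nat_lit 35), (nat_lit 2), (nat_lit 0), (nat_lit 3)⟩)) (BT.node (nat_lit 94) (BT.leaf ⟨[(nat_lit 9), (nat_lit 9), (nat_lit 9)], (nat_lit 84), (nat_lit 0), (nat_lit 0), (nat_lit 3)⟩) (BT.leaf ⟨[(nat_lit 11), (nat_lit 1), (nat_lit 2), (nat_lit 4), (nat_lit 5), (nat_lit 12), (nat_lit 9)], (nat_lit 45), (nat_lit 0), (nat_lit 0), (nat_lit 3)⟩))))) (BT.node (nat_lit 102) (BT.node (nat_lit 98) (BT.node (nat_lit 96) (BT.leaf ⟨[(nat_lit 11), (nat_lit 10), (nat_lit 11)], (nat_lit 42), (nat_lit 1), (nat_lit 0), (nat_lit 3)⟩) (BT.node (nat_lit 97) (BT.leaf ⟨[(nat_lit 4), (nat_lit 10), (nat_lit 2), (nat_lit 10)], (nat_lit 38), (nat_lit 3), (nat_lit 0), (nat_lit 3)⟩) (BT.leaf ⟨[(nat_lit 6), (nat_lit 10), (nat_lit 6), (nat_lit 10)], (nat_lit 39), (nat_lit 1), (nat_lit 0), (nat_lit 3)⟩))) (BT.node (nat_lit 100) (BT.node (nat_lit 99) (BT.leaf ⟨[(nat_lit 7),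 (nat_lit 10), (nat_lit 7), (nat_lit 10)], (nat_lit 40), (nat_lit 1), (nat_lit 0), (nat_lit 3)⟩) (BT.leaf ⟨[(nat_lit 12), (nat_lit 9), (nat_lit 11), (nat_lit 1), (nat_lit 2), (nat_lit 4), (nat_lit 5)], (nat_lit 45), (nat_lit 5), (nat_lit 0), (nat_lit 3)⟩)) (BT.node (nat_lit 101) (BT.leaf ⟨[(nat_lit 2), (nat_lit 10), (nat_lit 4), (nat_lit 10)], (nat_lit 38), (nat_lit 1), (nat_lit 0), (nat_lit 3)⟩) (BT.leaf ⟨[(nat_lit 10), (nat_lit 1), (nat_lit 2), (nat_lit 3), (nat_lit 4), (nat_lit 5), (nat_lit 4), (nat_lit 3), (nat_lit 2), (nat_lit 1), (nat_lit 2), (nat_lit 3), (nat_lit 4), (nat_lit 3), (nat_lit 2), (nat_lit 3)], (nat_lit 41), (nat_lit 15), (nat_lit 0), (nat_lit 3)⟩)))) (BT.node (nat_lit 105) (BT.node (nat_lit 103) (BT.leaf ⟨[(nat_lit 12), (nat_lit 10), (nat_lit 12)], (nat_lit 98), (nat_lit 2), (nat_lit 0), (nat_lit 3)⟩) (BT.node (nat_lit 104) (BT.leaf ⟨[(nat_lit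 1), (nat_lit 10), (nat_lit 5), (nat_lit 10)], (nat_lit 37), (nat_lit 1), (nat_lit 0), (nat_lit 3)⟩) (BT.leaf ⟨[(nat_lit 5), (nat_lit 10), (nat_lit 1), (nat_lit 10)], (nat_lit 37), (nat_lit 3), (nat_lit 0), (nat_lit 3)⟩))) (BT.node (nat_lit 107) (BT.node (nat_lit 106) (BT.leaf ⟨[(nat_lit 9), (nat_lit 4), (nat_lit 8), (nat_lit 2)], (nat_lit 32), (nat_lit 2), (nat_lit 0), (nat_lit 3)⟩) (BT.leaf ⟨[(nat_lit 9), (nat_lit 2), (nat_lit 8), (nat_lit 7)], (nat_lit 36), (nat_lit 2), (nat_lit 0), (nat_lit 3)⟩)) (BT.node (nat_lit 108) (BT.leaf ⟨[(nat_lit 9), (nat_lit 5), (nat_lit 8), (nat_lit 1)], (nat_lit 31), (nat_lit 2), (nat_lit 0), (nat_lit 3)⟩) (BT.leaf ⟨[(nat_lit 9), (nat_lit 6), (nat_lit 8), (nat_lit 5)], (nat_lit 33), (nat_lit 2), (nat_lit 0), (nat_lit 3)⟩)))))))) (BT.node (nat_lit 164) (BT.node (nat_lit 136) (BT.node (nat_lit 122) (BT.node (nat_lit 115) (BT.node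 (nat_lit 112) (BT.node (nat_lit 110) (BT.leaf ⟨[(nat_lit 4), (nat_lit 7), (nat_lit 4), (nat_lit 7)], (nat_lit 25), (nat_lit 0), (nat_lit 0), (nat_lit 3)⟩) (BT.node (nat_lit 111) (BT.leaf ⟨[(nat_lit 1), (nat_lit 6), (nat_lit 1), (nat_lit 6)], (nat_lit 18), (nat_lit 0), (nat_lit 0), (nat_lit 3)⟩) (BT.leaf ⟨[(nat_lit 2), (nat_lit 7), (nat_lit 2), (nat_lit 7)], (nat_lit 21), (nat_lit 0), (nat_lit 0), (nat_lit 3)⟩))) (BT.node (nat_lit 113) (BT.leaf ⟨[(nat_lit 1), (nat_lit 2), (nat_lit 4), (nat_lit 5), (nat_lit 12), (nat_lit 9), (nat_lit 11)], (nat_lit 45), (nat_lit 1), (nat_lit 0), (nat_lit 3)⟩) (BT.node (nat_lit 114) (BT.leaf ⟨[(nat_lit 11), (nat_lit 5), (nat_lit 4), (nat_lit 2), (nat_lit 1), (nat_lit 12), (nat_lit 8)], (nat_lit 101), (nat_lit 1), (nat_lit 0), (nat_lit 3)⟩) (BT.leaf ⟨[(nat_lit 12), (nat_lit 8), (nat_lit 11), (nat_lit 5), (nat_lit 4), (nat_lit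 2), (nat_lit 1)], (nat_lit 101), (nat_lit 6), (nat_lit 0), (nat_lit 3)⟩)))) (BT.node (nat_lit 118) (BT.node (nat_lit 116) (BT.leaf ⟨[(nat_lit 1), (nat_lit 12), (nat_lit 8), (nat_lit 11), (nat_lit 5), (nat_lit 4), (nat_lit 2)], (nat_lit 101), (nat_lit 5), (nat_lit 0), (nat_lit 3)⟩) (BT.node (nat_lit 117) (BT.leaf ⟨[(nat_lit 5), (nat_lit 6), (nat_lit 5), (nat_lit 6)], (nat_lit 26), (nat_lit 0), (nat_lit 0), (nat_lit 3)⟩) (BT.leaf ⟨[(nat_lit 2), (nat_lit 4), (nat_lit 5), (nat_lit 12), (nat_lit 9), (nat_lit 11), (nat_lit 1)], (nat_lit 45), (nat_lit 2), (nat_lit 0), (nat_lit 3)⟩))) (BT.node (nat_lit 120) (BT.node (nat_lit 119) (BT.leaf ⟨[(nat_lit 11), (nat_lit 7), (nat_lit 6), (nat_lit 11), (nat_lit 7), (nat_lit 6), (nat_lit 11), (nat_lit 7), (nat_lit 6)], (nat_lit 43), (nat_lit 0), (nat_lit 0), (nat_lit 3)⟩) (BT.leaf ⟨[(nat_lit 3), (nat_lit 2), (nat_lit 3), (nat_lit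 10), (nat_lit 1), (nat_lit 2), (nat_lit 3), (nat_lit 4), (nat_lit 5), (nat_lit 4), (nat_lit 3), (nat_lit 2), (nat_lit 1), (nat_lit 2), (nat_lit 3), (nat_lit 4)], (nat_lit 41), (nat_lit 12), (nat_lit 0), (nat_lit 3)⟩)) (BT.node (nat_lit 121) (BT.leaf ⟨[(nat_lit 5), (nat_lit 4), (nat_lit 3), (nat_lit 2), (nat_lit 1), (nat_lit 2), (nat_lit 3), (nat_lit 4), (nat_lit 3), (nat_lit 2), (nat_lit 3), (nat_lit 10), (nat_lit 1), (nat_lit 2), (nat_lit 3), (nat_lit 4)], (nat_lit 41), (nat_lit 4), (nat_lit 0), (nat_lit 3)⟩) (BT.leaf ⟨[(nat_lit 5), (nat_lit 4), (nat_lit 2), (nat_lit 1), (nat_lit 12), (nat_lit 8), (nat_lit 11)], (nat_lit 101), (nat_lit 2), (nat_lit 0), (nat_lit 3)⟩))))) (BT.node (nat_lit 129) (BT.node (nat_lit 125) (BT.node (nat_lit 123) (BT.leaf ⟨[(nat_lit 1), (nat_lit 1)], (nat_lit 0), (nat_lit 0), (nat_lit 0), (nat_lit 5)⟩) (BT.node (nat_lit 124) (BT.leaf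 ⟨[(nat_lit 2), (nat_lit 2)], (nat_lit 1), (nat_lit 0), (nat_lit 0), (nat_lit 5)⟩) (BT.leaf ⟨[(nat_lit 4), (nat_lit 4)], (nat_lit 3), (nat_lit 0), (nat_lit 0), (nat_lit 5)⟩))) (BT.node (nat_lit 127) (BT.node (nat_lit 126) (BT.leaf ⟨[(nat_lit 5), (nat_lit 5)], (nat_lit 4), (nat_lit 0), (nat_lit 0), (nat_lit 5)⟩) (BT.leaf ⟨[(nat_lit 9), (nat_lit 1), (nat_lit 8), (nat_lit 6)], (nat_lit 35), (nat_lit 2), (nat_lit 0), (nat_lit 4)⟩)) (BT.node (nat_lit 128) (BT.leaf ⟨[(nat_lit 8), (nat_lit 9)], (nat_lit 48), (nat_lit 0), (nat_lit 0), (nat_lit 4)⟩) (BT.leaf ⟨[(nat_lit 3), (nat_lit 3)], (nat_lit 2), (nat_lit 0), (nat_lit 0), (nat_lit 5)⟩)))) (BT.node (nat_lit 132) (BT.node (nat_lit 130) (BT.leaf ⟨[(nat_lit 7), (nat_lit 3), (nat_lit 7), (nat_lit 3)], (nat_lit 23), (nat_lit 1), (nat_lit 0), (nat_lit 5)⟩) (BT.node (nat_lit 131) (BT.leaf ⟨[(nat_lit 11), (nat_lit 3), (nat_lit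 12), (nat_lit 3)], (nat_lit 44), (nat_lit 0), (nat_lit 0), (nat_lit 5)⟩) (BT.leaf ⟨[(nat_lit 12), (nat_lit 11)], (nat_lit 46), (nat_lit 1), (nat_lit 0), (nat_lit 5)⟩))) (BT.node (nat_lit 134) (BT.node (nat_lit 133) (BT.leaf ⟨[(nat_lit 10), (nat_lit 10)], (nat_lit 29), (nat_lit 0), (nat_lit 0), (nat_lit 5)⟩) (BT.leaf ⟨[(nat_lit 10), (nat_lit 1), (nat_lit 10), (nat_lit 5)], (nat_lit 37), (nat_lit 0), (nat_lit 0), (nat_lit 4)⟩)) (BT.node (nat_lit 135) (BT.leaf ⟨[(nat_lit 12), (nat_lit 10), (nat_lit 12)], (nat_lit 98), (nat_lit 2), (nat_lit 0), (nat_lit 5)⟩) (BT.leaf ⟨[(nat_lit 8), (nat_lit 4), (nat_lit 9), (nat_lit 7)], (nat_lit 34), (nat_lit 0), (nat_lit 0), (nat_lit 4)⟩)))))) (BT.node (nat_lit 150) (BT.node (nat_lit 143) (BT.node (nat_lit 139) (BT.node (nat_lit 137) (BT.leaf ⟨[(nat_lit 9), (nat_lit 2), (nat_lit 8), (nat_lit 7)], (nat_lit 36), (nat_lit 2), (nat_lit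 0), (nat_lit 4)⟩) (BT.node (nat_lit 138) (BT.leaf ⟨[(nat_lit 1), (nat_lit 3), (nat_lit 1), (nat_lit 3)], (nat_lit 9), (nat_lit 0), (nat_lit 0), (nat_lit 4)⟩) (BT.leaf ⟨[(nat_lit 5), (nat_lit 3), (nat_lit 5), (nat_lit 3)], (nat_lit 14), (nat_lit 1), (nat_lit 0), (nat_lit 4)⟩))) (BT.node (nat_lit 141) (BT.node (nat_lit 140) (BT.leaf ⟨[(nat_lit 6), (nat_lit 3), (nat_lit 6), (nat_lit 3)], (nat_lit 22), (nat_lit 1), (nat_lit 0), (nat_lit 4)⟩) (BT.leaf ⟨[(nat_lit 12), (nat_lit 3), (nat_lit 11), (nat_lit 3)], (nat_lit 44), (nat_lit 2), (nat_lit 0), (nat_lit 4)⟩)) (BT.node (nat_lit 142) (BT.leaf ⟨[(nat_lit 11), (nat_lit 12)], (nat_lit 46), (nat_lit 0), (nat_lit 0), (nat_lit 4)⟩) (BT.leaf ⟨[(nat_lit 11), (nat_lit 3), (nat_lit 12), (nat_lit 3)], (nat_lit 44), (nat_lit 0), (nat_lit 0), (nat_lit 4)⟩)))) (BT.node (nat_lit 146) (BT.node (nat_lit 144) (BT.leaf ⟨[(nat_lit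 10), (nat_lit 12), (nat_lit 12)], (nat_lit 98), (nat_lit 0), (nat_lit 0), (nat_lit 5)⟩) (BT.node (nat_lit 145) (BT.leaf ⟨[(nat_lit 9), (nat_lit 11), (nat_lit 1), (nat_lit 2), (nat_lit 4), (nat_lit 5), (nat_lit 12)], (nat_lit 45), (nat_lit 6), (nat_lit 0), (nat_lit 5)⟩) (BT.leaf ⟨[(nat_lit 4), (nat_lit 1), (nat_lit 4), (nat_lit 1)], (nat_lit 10), (nat_lit 1), (nat_lit 0), (nat_lit 4)⟩))) (BT.node (nat_lit 148) (BT.node (nat_lit 147) (BT.leaf ⟨[(nat_lit 4), (nat_lit 4)], (nat_lit 3), (nat_lit 0), (nat_lit 0), (nat_lit 4)⟩) (BT.leaf ⟨[(nat_lit 7), (nat_lit 1), (nat_lit 7), (nat_lit 1)], (nat_lit 19), (nat_lit 1), (nat_lit 0), (nat_lit 4)⟩)) (BT.node (nat_lit 149) (BT.leaf ⟨[(nat_lit 7), (nat_lit 7)], (nat_lit 16), (nat_lit 0), (nat_lit 0), (nat_lit 4)⟩) (BT.leaf ⟨[(nat_lit 5), (nat_lit 2), (nat_lit 5), (nat_lit 2)], (nat_lit 13), (nat_lit 1), (nat_lit 0), (nat_lit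 4)⟩))))) (BT.node (nat_lit 157) (BT.node (nat_lit 153) (BT.node (nat_lit 151) (BT.leaf ⟨[(nat_lit 6), (nat_lit 2), (nat_lit 6), (nat_lit 2)], (nat_lit 20), (nat_lit 1), (nat_lit 0), (nat_lit 4)⟩) (BT.node (nat_lit 152) (BT.leaf ⟨[(nat_lit 5), (nat_lit 12), (nat_lit 9), (nat_lit 11), (nat_lit 1), (nat_lit 2), (nat_lit 4)], (nat_lit 45), (nat_lit 4), (nat_lit 0), (nat_lit 3)⟩) (BT.leaf ⟨[(nat_lit 1), (nat_lit 5), (nat_lit 1), (nat_lit 5)], (nat_lit 11), (nat_lit 0), (nat_lit 0), (nat_lit 4)⟩))) (BT.node (nat_lit 155) (BT.node (nat_lit 154) (BT.leaf ⟨[(nat_lit 2), (nat_lit 5), (nat_lit 2), (nat_lit 5)], (nat_lit 13), (nat_lit 0), (nat_lit 0), (nat_lit 4)⟩) (BT.leaf ⟨[(nat_lit 4), (nat_lit 1), (nat_lit 4), (nat_lit 1)], (nat_lit 10), (nat_lit 1), (nat_lit 0), (nat_lit 5)⟩)) (BT.node (nat_lit 156) (BT.leaf ⟨[(nat_lit 1), (nat_lit 6), (nat_lit 1), (nat_lit 6)],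 (nat_lit 18), (nat_lit 0), (nat_lit 0), (nat_lit 4)⟩) (BT.leaf ⟨[(nat_lit 2), (nat_lit 6), (nat_lit 2), (nat_lit 6)], (nat_lit 20), (nat_lit 0), (nat_lit 0), (nat_lit 4)⟩)))) (BT.node (nat_lit 160) (BT.node (nat_lit 158) (BT.leaf ⟨[(nat_lit 4), (nat_lit 6), (nat_lit 4), (nat_lit 6)], (nat_lit 24), (nat_lit 0), (nat_lit 0), (nat_lit 4)⟩) (BT.node (nat_lit 159) (BT.leaf ⟨[(nat_lit 7), (nat_lit 1), (nat_lit 7), (nat_lit 1)], (nat_lit 19), (nat_lit 1), (nat_lit 0), (nat_lit 5)⟩) (BT.leaf ⟨[(nat_lit 9), (nat_lit 8)], (nat_lit 48), (nat_lit 1), (nat_lit 0), (nat_lit 5)⟩))) (BT.node (nat_lit 162) (BT.node (nat_lit 161) (BT.leaf ⟨[(nat_lit 8), (nat_lit 8), (nat_lit 8)], (nat_lit 28), (nat_lit 0), (nat_lit 0), (nat_lit 5)⟩) (BT.leaf ⟨[(nat_lit 6), (nat_lit 6)], (nat_lit 15), (nat_lit 0), (nat_lit 0), (nat_lit 5)⟩)) (BT.node (nat_lit 163) (BT.leaf ⟨[(nat_lit 8), (nat_lit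 1), (nat_lit 9), (nat_lit 5)], (nat_lit 31), (nat_lit 0), (nat_lit 0), (nat_lit 4)⟩) (BT.leaf ⟨[(nat_lit 9), (nat_lit 8)], (nat_lit 48), (nat_lit 1), (nat_lit 0), (nat_lit 4)⟩))))))) (BT.node (nat_lit 191) (BT.node (nat_lit 177) (BT.node (nat_lit 170) (BT.node (nat_lit 167) (BT.node (nat_lit 165) (BT.leaf ⟨[(nat_lit 8), (nat_lit 9)], (nat_lit 48), (nat_lit 0), (nat_lit 0), (nat_lit 5)⟩) (BT.node (nat_lit 166) (BT.leaf ⟨[(nat_lit 10), (nat_lit 2), (nat_lit 10), (nat_lit 4)], (nat_lit 38), (nat_lit 0), (nat_lit 0), (nat_lit 4)⟩) (BT.leaf ⟨[(nat_lit 10), (nat_lit 10)], (nat_lit 29), (nat_lit 0), (nat_lit 0), (nat_lit 4)⟩))) (BT.node (nat_lit 168) (BT.leaf ⟨[(nat_lit 10), (nat_lit 6), (nat_lit 10), (nat_lit 6)], (nat_lit 39), (nat_lit 0), (nat_lit 0), (nat_lit 4)⟩) (BT.node (nat_lit 169) (BT.leaf ⟨[(nat_lit 10), (nat_lit 8), (nat_lit 10), (nat_lit 8)], (nat_lit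 30), (nat_lit 1), (nat_lit 0), (nat_lit 4)⟩) (BT.leaf ⟨[(nat_lit 1), (nat_lit 4), (nat_lit 1), (nat_lit 4)], (nat_lit 10), (nat_lit 0), (nat_lit 0), (nat_lit 4)⟩)))) (BT.node (nat_lit 173) (BT.node (nat_lit 171) (BT.leaf ⟨[(nat_lit 1), (nat_lit 1)], (nat_lit 0), (nat_lit 0), (nat_lit 0), (nat_lit 4)⟩) (BT.node (nat_lit 172) (BT.leaf ⟨[(nat_lit 2), (nat_lit 4), (nat_lit 2), (nat_lit 4)], (nat_lit 12), (nat_lit 0), (nat_lit 0), (nat_lit 4)⟩) (BT.leaf ⟨[(nat_lit 6), (nat_lit 4), (nat_lit 6), (nat_lit 4)], (nat_lit 24), (nat_lit 1), (nat_lit 0), (nat_lit 4)⟩))) (BT.node (nat_lit 175) (BT.node (nat_lit 174) (BT.leaf ⟨[(nat_lit 9), (nat_lit 7), (nat_lit 8), (nat_lit 4)], (nat_lit 34), (nat_lit 2), (nat_lit 0), (nat_lit 4)⟩) (BT.leaf ⟨[(nat_lit 5), (nat_lit 2), (nat_lit 5), (nat_lit 2)], (nat_lit 13), (nat_lit 1), (nat_lit 0), (nat_lit 5)⟩)) (BT.node (nat_lit 176)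 (BT.leaf ⟨[(nat_lit 7), (nat_lit 9), (nat_lit 2), (nat_lit 8)], (nat_lit 36), (nat_lit 1), (nat_lit 0), (nat_lit 4)⟩) (BT.leaf ⟨[(nat_lit 11), (nat_lit 1), (nat_lit 2), (nat_lit 4), (nat_lit 5), (nat_lit 12), (nat_lit 9)], (nat_lit 45), (nat_lit 0), (nat_lit 0), (nat_lit 4)⟩))))) (BT.node (nat_lit 184) (BT.node (nat_lit 180) (BT.node (nat_lit 178) (BT.leaf ⟨[(nat_lit 12), (nat_lit 11)], (nat_lit 46), (nat_lit 1), (nat_lit 0), (nat_lit 4)⟩) (BT.node (nat_lit 179) (BT.leaf ⟨[(nat_lit 11), (nat_lit 10), (nat_lit 11)], (nat_lit 42), (nat_lit 1), (nat_lit 0), (nat_lit 4)⟩) (BT.leaf ⟨[(nat_lit 1), (nat_lit 7), (nat_lit 1), (nat_lit 7)], (nat_lit 19), (nat_lit 0), (nat_lit 0), (nat_lit 4)⟩))) (BT.node (nat_lit 182) (BT.node (nat_lit 181) (BT.leaf ⟨[(nat_lit 2), (nat_lit 7), (nat_lit 2), (nat_lit 7)], (nat_lit 21), (nat_lit 0), (nat_lit 0), (nat_lit 4)⟩) (BT.leaf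 ⟨[(nat_lit 4), (nat_lit 7), (nat_lit 4), (nat_lit 7)], (nat_lit 25), (nat_lit 0), (nat_lit 0), (nat_lit 4)⟩)) (BT.node (nat_lit 183) (BT.leaf ⟨[(nat_lit 5), (nat_lit 7), (nat_lit 5), (nat_lit 7)], (nat_lit 27), (nat_lit 0), (nat_lit 0), (nat_lit 4)⟩) (BT.leaf ⟨[(nat_lit 10), (nat_lit 7), (nat_lit 10), (nat_lit 7)], (nat_lit 40), (nat_lit 0), (nat_lit 0), (nat_lit 4)⟩)))) (BT.node (nat_lit 187) (BT.node (nat_lit 185) (BT.leaf ⟨[(nat_lit 6), (nat_lit 2), (nat_lit 6), (nat_lit 2)], (nat_lit 20), (nat_lit 1), (nat_lit 0), (nat_lit 5)⟩) (BT.node (nat_lit 186) (BT.leaf ⟨[(nat_lit 3), (nat_lit 7), (nat_lit 3), (nat_lit 7)], (nat_lit 23), (nat_lit 0), (nat_lit 0), (nat_lit 4)⟩) (BT.leaf ⟨[(nat_lit 5), (nat_lit 5)], (nat_lit 4), (nat_lit 0), (nat_lit 0), (nat_lit 4)⟩))) (BT.node (nat_lit 189) (BT.node (nat_lit 188) (BT.leaf ⟨[(nat_lit 6), (nat_lit 6)], (nat_lit 15),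 (nat_lit 0), (nat_lit 0), (nat_lit 4)⟩) (BT.leaf ⟨[(nat_lit 7), (nat_lit 7)], (nat_lit 16), (nat_lit 0), (nat_lit 0), (nat_lit 5)⟩)) (BT.node (nat_lit 190) (BT.leaf ⟨[(nat_lit 1), (nat_lit 9), (nat_lit 5), (nat_lit 8)], (nat_lit 31), (nat_lit 1), (nat_lit 0), (nat_lit 4)⟩) (BT.leaf ⟨[(nat_lit 4), (nat_lit 9), (nat_lit 7), (nat_lit 8)], (nat_lit 34), (nat_lit 1), (nat_lit 0), (nat_lit 4)⟩)))))) (BT.node (nat_lit 205) (BT.node (nat_lit 198) (BT.node (nat_lit 194) (BT.node (nat_lit 192) (BT.leaf ⟨[(nat_lit 11), (nat_lit 5), (nat_lit 4), (nat_lit 2), (nat_lit 1), (nat_lit 12), (nat_lit 8)], (nat_lit 101), (nat_lit 1), (nat_lit 0), (nat_lit 4)⟩) (BT.node (nat_lit 193) (BT.leaf ⟨[(nat_lit 0), (nat_lit 8), (nat_lit 4), (nat_lit 9), (nat_lit 7)], (nat_lit 34), (nat_lit 0), (nat_lit 1), (nat_lit 3)⟩) (BT.leaf ⟨[(nat_lit 6), (nat_lit 3), (nat_lit 6), (nat_lit 3)], (nat_lit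 22), (nat_lit 1), (nat_lit 0), (nat_lit 5)⟩))) (BT.node (nat_lit 196) (BT.node (nat_lit 195) (BT.leaf ⟨[(nat_lit 5), (nat_lit 3), (nat_lit 5), (nat_lit 3)], (nat_lit 14), (nat_lit 1), (nat_lit 0), (nat_lit 5)⟩) (BT.leaf ⟨[(nat_lit 1), (nat_lit 3), (nat_lit 1), (nat_lit 3)], (nat_lit 9), (nat_lit 0), (nat_lit 0), (nat_lit 5)⟩)) (BT.node (nat_lit 197) (BT.leaf ⟨[(nat_lit 9), (nat_lit 4), (nat_lit 8), (nat_lit 2)], (nat_lit 32), (nat_lit 2), (nat_lit 0), (nat_lit 5)⟩) (BT.leaf ⟨[(nat_lit 9), (nat_lit 7), (nat_lit 8), (nat_lit 4)], (nat_lit 34), (nat_lit 2), (nat_lit 0), (nat_lit 5)⟩)))) (BT.node (nat_lit 201) (BT.node (nat_lit 199) (BT.leaf ⟨[(nat_lit 9), (nat_lit 2), (nat_lit 8), (nat_lit 7)], (nat_lit 36), (nat_lit 2), (nat_lit 0), (nat_lit 5)⟩) (BT.node (nat_lit 200) (BT.leaf ⟨[(nat_lit 10), (nat_lit 4), (nat_lit 10), (nat_lit 2)], (nat_lit 38), (nat_lit 2),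 (nat_lit 0), (nat_lit 5)⟩) (BT.leaf ⟨[(nat_lit 10), (nat_lit 2), (nat_lit 10), (nat_lit 4)], (nat_lit 38), (nat_lit 0), (nat_lit 0), (nat_lit 5)⟩))) (BT.node (nat_lit 203) (BT.node (nat_lit 202) (BT.leaf ⟨[(nat_lit 10), (nat_lit 7), (nat_lit 10), (nat_lit 7)], (nat_lit 40), (nat_lit 0), (nat_lit 0), (nat_lit 5)⟩) (BT.leaf ⟨[(nat_lit 3), (nat_lit 2), (nat_lit 3), (nat_lit 2), (nat_lit 3), (nat_lit 2)], (nat_lit 6), (nat_lit 1), (nat_lit 0), (nat_lit 5)⟩)) (BT.node (nat_lit 204) (BT.leaf ⟨[(nat_lit 5), (nat_lit 7), (nat_lit 5), (nat_lit 7)], (nat_lit 27), (nat_lit 0), (nat_lit 0), (nat_lit 5)⟩) (BT.leaf ⟨[(nat_lit 2), (nat_lit 1), (nat_lit 12), (nat_lit 8), (nat_lit 11), (nat_lit 5), (nat_lit 4)], (nat_lit 101), (nat_lit 4), (nat_lit 0), (nat_lit 3)⟩))))) (BT.node (nat_lit 212) (BT.node (nat_lit 208) (BT.node (nat_lit 206) (BT.leaf ⟨[(nat_lit 0), (nat_lit 4),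 (nat_lit 10), (nat_lit 2), (nat_lit 10)], (nat_lit 38), (nat_lit 3), (nat_lit 1), (nat_lit 3)⟩) (BT.node (nat_lit 207) (BT.leaf ⟨[(nat_lit 7), (nat_lit 8), (nat_lit 4), (nat_lit 9)], (nat_lit 34), (nat_lit 3), (nat_lit 0), (nat_lit 5)⟩) (BT.leaf ⟨[(nat_lit 0), (nat_lit 1), (nat_lit 6), (nat_lit 1), (nat_lit 6)], (nat_lit 18), (nat_lit 0), (nat_lit 1), (nat_lit 3)⟩))) (BT.node (nat_lit 210) (BT.node (nat_lit 209) (BT.leaf ⟨[(nat_lit 1), (nat_lit 8), (nat_lit 6), (nat_lit 9)], (nat_lit 35), (nat_lit 3), (nat_lit 0), (nat_lit 5)⟩) (BT.leaf ⟨[(nat_lit 2), (nat_lit 8), (nat_lit 7), (nat_lit 9)], (nat_lit 36), (nat_lit 3), (nat_lit 0), (nat_lit 5)⟩)) (BT.node (nat_lit 211) (BT.leaf ⟨[(nat_lit 0), (nat_lit 5), (nat_lit 1), (nat_lit 5), (nat_lit 1)], (nat_lit 11), (nat_lit 1), (nat_lit 1), (nat_lit 3)⟩) (BT.leaf ⟨[(nat_lit 1), (nat_lit 9), (nat_lit 5), (nat_lit 8)],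 (nat_lit 31), (nat_lit 1), (nat_lit 0), (nat_lit 5)⟩)))) (BT.node (nat_lit 215) (BT.node (nat_lit 213) (BT.leaf ⟨[(nat_lit 6), (nat_lit 5), (nat_lit 6), (nat_lit 5)], (nat_lit 26), (nat_lit 1), (nat_lit 0), (nat_lit 5)⟩) (BT.node (nat_lit 214) (BT.leaf ⟨[(nat_lit 5), (nat_lit 9), (nat_lit 6), (nat_lit 8)], (nat_lit 33), (nat_lit 1), (nat_lit 0), (nat_lit 5)⟩) (BT.leaf ⟨[(nat_lit 6), (nat_lit 9), (nat_lit 1), (nat_lit 8)], (nat_lit 35), (nat_lit 1), (nat_lit 0), (nat_lit 5)⟩))) (BT.node (nat_lit 217) (BT.node (nat_lit 216) (BT.leaf ⟨[(nat_lit 0), (nat_lit 4), (nat_lit 2), (nat_lit 4), (nat_lit 2)], (nat_lit 12), (nat_lit 1), (nat_lit 1), (nat_lit 3)⟩) (BT.leaf ⟨[(nat_lit 2), (nat_lit 9), (nat_lit 4), (nat_lit 8)], (nat_lit 32), (nat_lit 1), (nat_lit 0), (nat_lit 5)⟩)) (BT.node (nat_lit 218) (BT.leaf ⟨[(nat_lit 3), (nat_lit 7), (nat_lit 3), (nat_lit 7)], (nat_lit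 23), (nat_lit 0), (nat_lit 0), (nat_lit 5)⟩) (BT.leaf ⟨[(nat_lit 12), (nat_lit 9), (nat_lit 11), (nat_lit 1), (nat_lit 2), (nat_lit 4), (nat_lit 5)], (nat_lit 45), (nat_lit 5), (nat_lit 0), (nat_lit 5)⟩)))))))))
noncomputable def eG_hcs : List CW := [⟨[(nat_lit 7)], (nat_lit 0), (nat_lit 0), (nat_lit 0), (nat_lit 0)⟩, ⟨[(nat_lit 6)], (nat_lit 1), (nat_lit 0), (nat_lit 0), (nat_lit 0)⟩, ⟨[(nat_lit 5)], (nat_lit 2), (nat_lit 0), (nat_lit 0), (nat_lit 0)⟩, ⟨[(nat_lit 4)], (nat_lit 3), (nat_lit 0), (nat_lit 0), (nat_lit 0)⟩, ⟨[(nat_lit 3)], (nat_lit 4), (nat_lit 0), (nat_lit 0), (nat_lit 0)⟩, ⟨[(nat_lit 2)], (nat_lit 5), (nat_lit 0), (nat_lit 0), (nat_lit 0)⟩, ⟨[(nat_lit 1)], (nat_lit 6), (nat_lit 0), (nat_lit 0), (nat_lit 0)⟩, ⟨[(nat_lit 7)], (nat_lit 7), (nat_lit 0), (nat_lit 0), (nat_lit 0)⟩, ⟨[(nat_lit 6)], (nat_lit 8), (nat_lit 0), (nat_lit 0), (nat_lit 0)⟩,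 ⟨[(nat_lit 5)], (nat_lit 9), (nat_lit 0), (nat_lit 0), (nat_lit 0)⟩, ⟨[(nat_lit 4)], (nat_lit 10), (nat_lit 0), (nat_lit 0), (nat_lit 0)⟩, ⟨[(nat_lit 3)], (nat_lit 11), (nat_lit 0), (nat_lit 0), (nat_lit 0)⟩, ⟨[(nat_lit 2)], (nat_lit 12), (nat_lit 0), (nat_lit 0), (nat_lit 0)⟩, ⟨[(nat_lit 1)], (nat_lit 13), (nat_lit 0), (nat_lit 0), (nat_lit 0)⟩]
noncomputable def eG_H (x j : Nat) : Bx (Nat → Nat → Nat) := mkH eG_L eG_pb.1 eG_e.get (lmap CW.w eG_hcs) (nat_lit 336) (nat_lit 337) (nat_lit 13) (nat_lit 512) (nat_lit 131072) (nat_lit 32767) x (eG_rots.get j)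
noncomputable def eG_F (x b : Nat) : Bool := blkOK eG_H eG_ch (nat_lit 337) (nat_lit 512) (nat_lit 256) (nat_lit 8) (nat_lit 255) (nat_lit 24) (nat_lit 16777215) x b

theorem eG_k0_0 : allFrom (eG_F (nat_lit 0)) (nat_lit 0) (nat_lit 8) = true := by decide +kernel
theorem eG_k1_0 : allFrom (eG_F (nat_lit 1)) (nat_lit 0) (nat_lit 8) = true := by decide +kernel
theorem eG_k2_0 : allFrom (eG_F (nat_lit 2)) (nat_lit 0) (nat_lit 8) = true := by decide +kernel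
theorem eG_k3_0 : allFrom (eG_F (nat_lit 3)) (nat_lit 0) (nat_lit 8) = true := by decide +kernel
theorem eG_k4_0 : allFrom (eG_F (nat_lit 4)) (nat_lit 0) (nat_lit 8) = true := by decide +kernel
theorem eG_k5_0 : allFrom (eG_F (nat_lit 5)) (nat_lit 0) (nat_lit 8) = true := by decide +kernel
theorem eG_k6_0 : allFrom (eG_F (nat_lit 6)) (nat_lit 0) (nat_lit 8) = true := by decide +kernel
theorem eG_k7_0 : allFrom (eG_F (nat_lit 7)) (nat_lit 0) (nat_lit 8) = true := by decide +kernel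
theorem eG_k8_0 : allFrom (eG_F (nat_lit 8)) (nat_lit 0) (nat_lit 8) = true := by decide +kernel
theorem eG_k9_0 : allFrom (eG_F (nat_lit 9)) (nat_lit 0) (nat_lit 8) = true := by decide +kernel
theorem eG_k10_0 : allFrom (eG_F (nat_lit 10)) (nat_lit 0) (nat_lit 8) = true := by decide +kernel
theorem eG_k11_0 : allFrom (eG_F (nat_lit 11)) (nat_lit 0) (nat_lit 8) = true := by decide +kernel
theorem eG_k12_0 : allFrom (eG_F (nat_lit 12)) (nat_lit 0) (nat_lit 8) = true := by decide +kernel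

theorem eG_all : Cov eG_F 8 13 0 := by
  have h := Cov.zero eG_F 8
  have h := h.blk (b := 8) eG_k0_0 rfl
  have h := h.next (y := 1) rfl rfl
  have h := h.blk (b := 8) eG_k1_0 rfl
  have h := h.next (y := 2) rfl rfl
  have h := h.blk (b := 8) eG_k2_0 rfl
  have h := h.next (y := 3) rfl rfl
  have h := h.blk (b := 8) eG_k3_0 rfl
  have h := h.next (y := 4) rfl rfl
  have h := h.blk (b := 8) eG_k4_0 rfl
  have h := h.next (y := 5) rfl rfl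
  have h := h.blk (b := 8) eG_k5_0 rfl
  have h := h.next (y := 6) rfl rfl
  have h := h.blk (b := 8) eG_k6_0 rfl
  have h := h.next (y := 7) rfl rfl
  have h := h.blk (b := 8) eG_k7_0 rfl
  have h := h.next (y := 8) rfl rfl
  have h := h.blk (b := 8) eG_k8_0 rfl
  have h := h.next (y := 9) rfl rfl
  have h := h.blk (b := 8) eG_k9_0 rfl
  have h := h.next (y := 10) rfl rfl
  have h := h.blk (b := 8) eG_k10_0 rfl
  have h := h.next (y := 11) rfl rfl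
  have h := h.blk (b := 8) eG_k11_0 rfl
  have h := h.next (y := 12) rfl rfl
  have h := h.blk (b := 8) eG_k12_0 rfl
  have h := h.next (y := 13) rfl rfl
  exact h

theorem eG : Enum RG (gensW 7) (gensW 10) 336 :=
  ⟨eG_cols, eG_ch, eG_L, eG_H, eG_pb.1, eG_e.get, [(nat_lit 0), (nat_lit 1), (nat_lit 3), (nat_lit 5), (nat_lit 7), (nat_lit 9), (nat_lit 11), (nat_lit 13), (nat_lit 15), (nat_lit 16), (nat_lit 17), (nat_lit 19), (nat_lit 20)], (nat_lit 383), (nat_lit 10), eG_rots, eG_hcs,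
    (nat_lit 337), (nat_lit 13), (nat_lit 512), (nat_lit 256), (nat_lit 131072), (nat_lit 32767), (nat_lit 8), (nat_lit 255), (nat_lit 24), (nat_lit 16777215), (nat_lit 2), (nat_lit 8),
    fun _ _ => rfl, fun _ => rfl, fun _ _ => rfl, by decide +kernel, eG_all.1⟩

def mmd : Equiv.Perm (Fin 28) := ⟨![0, 1, 2, 3, 5, 4, 7, 6, 8, 9, 10, 11, 13, 12, 15, 14, 16, 17, 18, 19, 21, 20, 23, 22, 24, 25, 26, 27], ![0, 1, 2, 3, 5, 4, 7, 6, 8, 9, 10, 11, 13, 12, 15, 14, 16, 17, 18, 19, 21, 20, 23, 22, 24, 25, 26, 27],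
  by decide +kernel, by decide +kernel⟩
def mmp : Equiv.Perm (Fin 28) := ⟨![0, 1, 2, 3, 9, 5, 11, 7, 8, 4, 10, 6, 18, 13, 19, 15, 16, 17, 12, 14, 25, 21, 26, 23, 24, 20, 22, 27], ![0, 1, 2, 3, 9, 5, 11, 7, 8, 4, 10, 6, 18, 13, 19, 15, 16, 17, 12, 14, 25, 21, 26, 23, 24, 20, 22, 27],
  by decide +kernel, by decide +kernel⟩
def mmw : Equiv.Perm (Fin 28) := ⟨![0, 1, 2, 3, 4, 5, 6, 7, 9, 8, 11, 10, 15, 14, 13, 12, 16, 17, 18, 19, 20, 21, 22, 23, 25, 24, 27, 26], ![0, 1, 2, 3, 4, 5, 6, 7, 9, 8, 11, 10, 15, 14, 13, 12, 16, 17, 18, 19, 20, 21, 22, 23, 25, 24, 27, 26],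
  by decide +kernel, by decide +kernel⟩
def mmr : Equiv.Perm (Fin 28) := ⟨![8, 1, 10, 3, 4, 5, 6, 7, 0, 9, 2, 11, 22, 23, 14, 15, 24, 17, 26, 19, 20, 21, 12, 13, 16, 25, 18, 27], ![8, 1, 10, 3, 4, 5, 6, 7, 0, 9, 2, 11, 22, 23, 14, 15, 24, 17, 26, 19, 20, 21, 12, 13, 16, 25, 18, 27],
  by decide +kernel, by decide +kernel⟩
def mmf : Equiv.Perm (Fin 28) := ⟨![1, 0, 3, 2, 4, 5, 6, 7, 8, 9, 10, 11, 14, 15, 12, 13, 17, 16, 19, 18, 20, 21, 22, 23, 24, 25, 26, 27], ![1, 0, 3, 2, 4, 5, 6, 7, 8, 9, 10, 11, 14, 15, 12, 13, 17, 16, 19, 18, 20, 21, 22, 23, 24, 25, 26, 27],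
  by decide +kernel, by decide +kernel⟩
def mmg : Equiv.Perm (Fin 28) := ⟨![2, 3, 0, 1, 6, 7, 4, 5, 10, 11, 8, 9, 12, 13, 14, 15, 16, 17, 18, 19, 20, 21, 22, 23, 24, 25, 26, 27], ![2, 3, 0, 1, 6, 7, 4, 5, 10, 11, 8, 9, 12, 13, 14, 15, 16, 17, 18, 19, 20, 21, 22, 23, 24, 25, 26, 27],
  by decide +kernel, by decide +kernel⟩
def mmh : Equiv.Perm (Fin 28) := ⟨![16, 17, 2, 3, 20, 21, 6, 7, 24, 25, 10, 11, 12, 13, 14, 15, 0, 1, 18, 19, 4, 5, 22, 23, 8, 9, 26, 27], ![16, 17, 2, 3, 20, 21, 6, 7, 24, 25, 10, 11, 12, 13, 14, 15, 0, 1, 18, 19, 4, 5, 22, 23, 8, 9, 26, 27],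
  by decide +kernel, by decide +kernel⟩
def mms : Equiv.Perm (Fin 28) := ⟨![4, 6, 5, 7, 12, 14, 13, 15, 20, 22, 21, 23, 0, 1, 2, 3, 9, 11, 8, 10, 18, 19, 16, 17, 25, 26, 24, 27], ![12, 13, 14, 15, 0, 2, 1, 3, 18, 16, 19, 17, 4, 6, 5, 7, 22, 23, 20, 21, 8, 10, 9, 11, 26, 24, 25, 27],
  by decide +kernel, by decide +kernel⟩
def mmt : Equiv.Perm (Fin 28) := ⟨![4, 5, 6, 7, 0, 1, 2, 3, 9, 8, 11, 10, 12, 14, 13, 15, 20, 21, 22, 23, 16, 17, 18, 19, 25, 24, 26, 27], ![4, 5, 6, 7, 0, 1, 2, 3, 9, 8, 11, 10, 12, 14, 13, 15, 20, 21, 22, 23, 16, 17, 18, 19, 25, 24, 26, 27],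
  by decide +kernel, by decide +kernel⟩
def mmq : Equiv.Perm (Fin 28) := ⟨![23, 17, 20, 18, 19, 21, 16, 22, 11, 10, 8, 9, 12, 24, 25, 15, 2, 5, 7, 0, 6, 1, 3, 4, 14, 13, 26, 27], ![19, 21, 16, 22, 23, 17, 20, 18, 10, 11, 9, 8, 12, 25, 24, 15, 6, 1, 3, 4, 2, 5, 7, 0, 13, 14, 26, 27],
  by decide +kernel, by decide +kernel⟩

def CM : List CF.Perm.SS.Lvl := [
  ⟨0, [[0, 1, 2, 3, 5, 4, 7, 6, 8, 9, 10, 11, 13, 12, 15, 14, 16, 17, 18, 19, 21, 20, 23, 22, 24, 25, 26, 27], [0, 1, 2, 3, 9, 5, 11, 7, 8, 4, 10, 6, 18, 13, 19, 15, 16, 17, 12, 14, 25, 21, 26, 23, 24, 20, 22, 27], [0, 1, 2, 3, 4, 5, 6, 7, 9, 8, 11, 10, 15, 14, 13, 12, 16, 17, 18, 19, 20, 21, 22, 23, 25, 24, 27, 26], [8, 1, 10, 3, 4, 5, 6, 7, 0, 9, 2, 11, 22, 23, 14, 15, 24, 17, 26, 19, 20, 21, 12, 13, 16, 25, 18, 27], [1, 0, 3, 2, 4, 5, 6, 7, 8, 9, 10, 11, 14, 15, 12, 13, 17, 16, 19, 18, 20, 21, 22, 23,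 24, 25, 26, 27], [2, 3, 0, 1, 6, 7, 4, 5, 10, 11, 8, 9, 12, 13, 14, 15, 16, 17, 18, 19, 20, 21, 22, 23, 24, 25, 26, 27], [16, 17, 2, 3, 20, 21, 6, 7, 24, 25, 10, 11, 12, 13, 14, 15, 0, 1, 18, 19, 4, 5, 22, 23, 8, 9, 26, 27], [4, 6, 5, 7, 12, 14, 13, 15, 20, 22, 21, 23, 0, 1, 2, 3, 9, 11, 8, 10, 18, 19, 16, 17, 25, 26, 24, 27], [4, 5, 6, 7, 0, 1, 2, 3, 9, 8, 11, 10, 12, 14, 13, 15, 20, 21, 22, 23, 16, 17, 18, 19, 25, 24, 26, 27], [23, 17, 20, 18, 19, 21, 16, 22, 11, 10, 8, 9, 12, 24, 25, 15, 2, 5, 7, 0, 6, 1, 3, 4, 14, 13, 26, 27]],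
    [(0, [], [0, 1, 2, 3, 4, 5, 6, 7, 8, 9, 10, 11, 12, 13, 14, 15, 16, 17, 18, 19, 20, 21, 22, 23, 24, 25, 26, 27]),
     (8, [3], [8, 1, 10, 3, 4, 5, 6, 7, 0, 9, 2, 11, 22, 23, 14, 15, 24, 17, 26, 19, 20, 21, 12, 13, 16, 25, 18, 27]),
     (1, [4], [1, 0, 3, 2, 4, 5, 6, 7, 8, 9, 10, 11, 14, 15, 12, 13, 17, 16, 19, 18, 20, 21, 22, 23, 24, 25, 26, 27]),
     (2, [5], [2, 3, 0, 1, 6, 7, 4, 5, 10, 11, 8, 9, 12, 13, 14, 15, 16, 17, 18, 19, 20, 21, 22, 23, 24, 25, 26, 27]),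
     (16, [6], [16, 17, 2, 3, 20, 21, 6, 7, 24, 25, 10, 11, 12, 13, 14, 15, 0, 1, 18, 19, 4, 5, 22, 23, 8, 9, 26, 27]),
     (12, [7], [4, 6, 5, 7, 12, 14, 13, 15, 20, 22, 21, 23, 0, 1, 2, 3, 9, 11, 8, 10, 18, 19, 16, 17, 25, 26, 24, 27]),
     (4, [8], [4, 5, 6, 7, 0, 1, 2, 3, 9, 8, 11, 10, 12, 14, 13, 15, 20, 21, 22, 23, 16, 17, 18, 19, 25, 24, 26, 27]),
     (19, [9], [23, 17, 20, 18, 19, 21, 16, 22, 11, 10, 8, 9, 12, 24, 25, 15, 2, 5, 7, 0, 6, 1, 3, 4, 14, 13, 26, 27]),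
     (9, [3, 2], [8, 1, 10, 3, 4, 5, 6, 7, 9, 0, 11, 2, 15, 14, 23, 22, 24, 17, 26, 19, 20, 21, 12, 13, 25, 16, 27, 18]),
     (10, [3, 5], [10, 3, 8, 1, 6, 7, 4, 5, 2, 11, 0, 9, 22, 23, 14, 15, 24, 17, 26, 19, 20, 21, 12, 13, 16, 25, 18, 27]),
     (24, [3, 6], [24, 17, 10, 3, 20, 21, 6, 7, 16, 25, 2, 11, 22, 23, 14, 15, 8, 1, 26, 19, 4, 5, 12, 13, 0, 9, 18, 27]),
     (18, [3, 7], [4, 6, 5, 7, 22, 14, 23, 15, 20, 12, 21, 13, 8, 1, 10, 3, 9, 11, 0, 2, 26, 19, 24, 17, 25, 18, 16, 27]),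
     (3, [4, 5], [3, 2, 1, 0, 6, 7, 4, 5, 10, 11, 8, 9, 14, 15, 12, 13, 17, 16, 19, 18, 20, 21, 22, 23, 24, 25, 26, 27]),
     (17, [4, 6], [17, 16, 3, 2, 20, 21, 6, 7, 24, 25, 10, 11, 14, 15, 12, 13, 1, 0, 19, 18, 4, 5, 22, 23, 8, 9, 26, 27]),
     (13, [4, 7], [4, 6, 5, 7, 14, 12, 15, 13, 20, 22, 21, 23, 1, 0, 3, 2, 9, 11, 8, 10, 19, 18, 17, 16, 25, 26, 24, 27]),
     (5, [4, 8], [4, 5, 6, 7, 1, 0, 3, 2, 9, 8, 11, 10, 14, 12, 15, 13, 20, 21, 22, 23, 17, 16, 19, 18, 25, 24, 26, 27]),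
     (21, [4, 9], [23, 16, 20, 19, 18, 21, 17, 22, 11, 10, 8, 9, 14, 24, 25, 13, 3, 5, 7, 1, 6, 0, 2, 4, 12, 15, 26, 27]),
     (14, [5, 7], [6, 4, 7, 5, 12, 14, 13, 15, 20, 22, 21, 23, 2, 3, 0, 1, 11, 9, 10, 8, 18, 19, 16, 17, 25, 26, 24, 27]),
     (6, [5, 8], [6, 7, 4, 5, 2, 3, 0, 1, 11, 10, 9, 8, 12, 14, 13, 15, 20, 21, 22, 23, 16, 17, 18, 19, 25, 24, 26, 27]),
     (22, [6, 7], [20, 6, 21, 7, 12, 14, 13, 15, 4, 22, 5, 23, 16, 17, 2, 3, 25, 11, 24, 10, 18, 19, 0, 1, 9, 26, 8, 27]),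
     (20, [6, 8], [20, 21, 6, 7, 16, 17, 2, 3, 25, 24, 11, 10, 12, 14, 13, 15, 4, 5, 22, 23, 0, 1, 18, 19, 9, 8, 26, 27]),
     (15, [7, 2], [4, 6, 5, 7, 12, 14, 13, 15, 22, 20, 23, 21, 3, 2, 1, 0, 9, 11, 8, 10, 18, 19, 16, 17, 26, 25, 27, 24]),
     (23, [8, 9], [19, 21, 16, 22, 23, 17, 20, 18, 10, 11, 9, 8, 12, 25, 24, 15, 6, 1, 3, 4, 2, 5, 7, 0, 13, 14, 26, 27]),
     (11, [3, 2, 5], [10, 3, 8, 1, 6, 7, 4, 5, 11, 2, 9, 0, 15, 14, 23, 22, 24, 17, 26, 19, 20, 21, 12, 13, 25, 16, 27, 18]),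
     (25, [3, 2, 6], [24, 17, 10, 3, 20, 21, 6, 7, 25, 16, 11, 2, 15, 14, 23, 22, 8, 1, 26, 19, 4, 5, 12, 13, 9, 0, 27, 18]),
     (26, [3, 6, 7], [20, 6, 21, 7, 22, 14, 23, 15, 4, 12, 5, 13, 24, 17, 10, 3, 25, 11, 16, 2, 26, 19, 8, 1, 9, 18, 0, 27]),
     (7, [4, 5, 8], [6, 7, 4, 5, 3, 2, 1, 0, 11, 10, 9, 8, 14, 12, 15, 13, 20, 21, 22, 23, 17, 16, 19, 18, 25, 24, 26, 27]),
     (27, [3, 6, 7, 2], [20, 6, 21, 7, 22, 14, 23, 15, 12, 4, 13, 5, 3, 10, 17, 24, 25, 11, 16, 2, 26, 19, 8, 1, 18, 9, 27, 0])],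
    [[0], [1], [2], [8, 7], [3, 4, 3]]⟩,
  ⟨1, [[0, 1, 2, 3, 5, 4, 7, 6, 8, 9, 10, 11, 13, 12, 15, 14, 16, 17, 18, 19, 21, 20, 23, 22, 24, 25, 26, 27], [0, 1, 2, 3, 9, 5, 11, 7, 8, 4, 10, 6, 18, 13, 19, 15, 16, 17, 12, 14, 25, 21, 26, 23, 24, 20, 22, 27], [0, 1, 2, 3, 4, 5, 6, 7, 9, 8, 11, 10, 15, 14, 13, 12, 16, 17, 18, 19, 20, 21, 22, 23, 25, 24, 27, 26], [0, 2, 1, 3, 12, 13, 14, 15, 16, 18, 17, 19, 4, 5, 6, 7, 8, 10, 9, 11, 22, 23, 20, 21, 24, 26, 25, 27], [0, 8, 2, 10, 4, 5, 6, 7, 1, 9, 3, 11, 12, 13, 22, 23, 16, 24, 18, 26, 20, 21, 14, 15, 17, 25, 19, 27]],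
    [(1, [], [0, 1, 2, 3, 4, 5, 6, 7, 8, 9, 10, 11, 12, 13, 14, 15, 16, 17, 18, 19, 20, 21, 22, 23, 24, 25, 26, 27]),
     (2, [3], [0, 2, 1, 3, 12, 13, 14, 15, 16, 18, 17, 19, 4, 5, 6, 7, 8, 10, 9, 11, 22, 23, 20, 21, 24, 26, 25, 27]),
     (8, [4], [0, 8, 2, 10, 4, 5, 6, 7, 1, 9, 3, 11, 12, 13, 22, 23, 16, 24, 18, 26, 20, 21, 14, 15, 17, 25, 19, 27]),
     (9, [4, 2], [0, 8, 2, 10, 4, 5, 6, 7, 9, 1, 11, 3, 23, 22, 13, 12, 16, 24, 18, 26, 20, 21, 14, 15, 25, 17, 27, 19]),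
     (16, [4, 3], [0, 2, 8, 10, 12, 13, 22, 23, 16, 18, 24, 26, 4, 5, 6, 7, 1, 3, 9, 11, 14, 15, 20, 21, 17, 19, 25, 27]),
     (4, [4, 2, 1], [0, 8, 2, 10, 1, 5, 3, 7, 9, 4, 11, 6, 18, 22, 26, 12, 16, 24, 23, 13, 17, 21, 27, 15, 25, 20, 14, 19]),
     (18, [4, 2, 3], [0, 2, 8, 10, 23, 22, 13, 12, 16, 18, 24, 26, 4, 5, 6, 7, 9, 11, 1, 3, 14, 15, 20, 21, 25, 27, 17, 19]),
     (5, [4, 2, 1, 0], [0, 8, 2, 10, 5, 1, 7, 3, 9, 4, 11, 6, 22, 18, 12, 26, 16, 24, 23, 13, 21, 17, 15, 27, 25, 20, 14, 19]),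
     (12, [4, 2, 1, 3], [0, 2, 8, 10, 18, 22, 26, 12, 16, 23, 24, 13, 1, 5, 3, 7, 9, 11, 4, 6, 27, 15, 17, 21, 25, 14, 20, 19]),
     (13, [4, 2, 1, 0, 3], [0, 2, 8, 10, 22, 18, 12, 26, 16, 23, 24, 13, 5, 1, 7, 3, 9, 11, 4, 6, 15, 27, 21, 17, 25, 14, 20, 19]),
     (15, [4, 2, 1, 3, 2], [0, 2, 8, 10, 18, 22, 26, 12, 23, 16, 13, 24, 7, 3, 5, 1, 9, 11, 4, 6, 27, 15, 17, 21, 14, 25, 19, 20]),
     (14, [4, 2, 1, 0, 3, 2], [0, 2, 8, 10, 22, 18, 12, 26, 23, 16, 13, 24, 3, 7, 1, 5, 9, 11, 4, 6, 15, 27, 21, 17, 14, 25, 19, 20]),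
     (7, [4, 2, 1, 3, 2, 3], [0, 8, 2, 10, 7, 3, 5, 1, 9, 4, 11, 6, 18, 22, 26, 12, 23, 13, 16, 24, 17, 21, 27, 15, 14, 19, 25, 20]),
     (23, [4, 2, 1, 3, 2, 4], [0, 23, 8, 13, 18, 22, 26, 12, 2, 16, 10, 24, 7, 3, 17, 21, 9, 14, 4, 19, 27, 15, 5, 1, 11, 25, 6, 20]),
     (19, [4, 2, 1, 0, 3, 2, 1], [0, 2, 8, 10, 16, 18, 24, 26, 23, 22, 13, 12, 4, 7, 6, 5, 9, 11, 3, 1, 25, 27, 19, 17, 14, 15, 21, 20]),
     (6, [4, 2, 1, 0, 3, 2, 3], [0, 8, 2, 10, 3, 7, 1, 5, 9, 4, 11, 6, 22, 18, 12, 26, 23, 13, 16, 24, 21, 17, 15, 27, 14, 19, 25, 20]),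
     (22, [4, 2, 1, 0, 3, 2, 4], [0, 23, 8, 13, 22, 18, 12, 26, 2, 16, 10, 24, 3, 7, 21, 17, 9, 14, 4, 19, 15, 27, 1, 5, 11, 25, 6, 20]),
     (21, [4, 2, 1, 3, 2, 4, 3], [0, 8, 23, 13, 7, 3, 17, 21, 9, 4, 14, 19, 18, 22, 26, 12, 2, 10, 16, 24, 5, 1, 27, 15, 11, 6, 25, 20]),
     (11, [4, 2, 1, 0, 3, 2, 1, 3], [0, 8, 2, 10, 4, 7, 6, 5, 9, 3, 11, 1, 16, 18, 24, 26, 23, 13, 22, 12, 19, 17, 25, 27, 14, 21, 15, 20]),
     (26, [4, 2, 1, 0, 3, 2, 1, 4], [0, 23, 8, 13, 16, 18, 24, 26, 2, 22, 10, 12, 4, 7, 19, 17, 9, 14, 3, 21, 25, 27, 6, 5, 11, 15, 1, 20]),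
     (20, [4, 2, 1, 0, 3, 2, 4, 3], [0, 8, 23, 13, 3, 7, 21, 17, 9, 4, 14, 19, 22, 18, 12, 26, 2, 10, 16, 24, 1, 5, 15, 27, 11, 6, 25, 20]),
     (10, [4, 2, 1, 0, 3, 2, 1, 3, 2], [0, 8, 2, 10, 4, 7, 6, 5, 3, 9, 1, 11, 26, 24, 18, 16, 23, 13, 22, 12, 19, 17, 25, 27, 21, 14, 20, 15]),
     (27, [4, 2, 1, 0, 3, 2, 1, 4, 2], [0, 23, 8, 13, 16, 18, 24, 26, 22, 2, 12, 10, 17, 19, 7, 4, 9, 14, 3, 21, 25, 27, 6, 5, 15, 11, 20, 1]),
     (25, [4, 2, 1, 0, 3, 2, 1, 4, 3], [0, 8, 23, 13, 4, 7, 19, 17, 9, 3, 14, 21, 16, 18, 24, 26, 2, 10, 22, 12, 6, 5, 25, 27, 11, 1, 15, 20]),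
     (17, [4, 2, 1, 0, 3, 2, 1, 3, 2, 3], [0, 2, 8, 10, 26, 24, 18, 16, 23, 22, 13, 12, 4, 7, 6, 5, 3, 1, 9, 11, 25, 27, 19, 17, 21, 20, 14, 15]),
     (3, [4, 2, 1, 0, 3, 2, 1, 3, 2, 4], [0, 3, 2, 1, 4, 7, 6, 5, 8, 9, 10, 11, 26, 24, 25, 27, 23, 21, 22, 20, 19, 17, 18, 16, 13, 14, 12, 15]),
     (24, [4, 2, 1, 0, 3, 2, 1, 4, 3, 2], [0, 8, 23, 13, 4, 7, 19, 17, 3, 9, 21, 14, 26, 24, 18, 16, 2, 10, 22, 12, 6, 5, 25, 27, 1, 11, 20, 15])],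
    [[0], [1], [2], [3, 2, 3], [3, 4, 3]]⟩,
  ⟨2, [[0, 1, 2, 3, 5, 4, 7, 6, 8, 9, 10, 11, 13, 12, 15, 14, 16, 17, 18, 19, 21, 20, 23, 22, 24, 25, 26, 27], [0, 1, 2, 3, 9, 5, 11, 7, 8, 4, 10, 6, 18, 13, 19, 15, 16, 17, 12, 14, 25, 21, 26, 23, 24, 20, 22, 27], [0, 1, 2, 3, 4, 5, 6, 7, 9, 8, 11, 10, 15, 14, 13, 12, 16, 17, 18, 19, 20, 21, 22, 23, 25, 24, 27, 26], [0, 1, 2, 3, 7, 6, 5, 4, 8, 9, 10, 11, 12, 13, 14, 15, 18, 19, 16, 17, 20, 21, 22, 23, 26, 27, 24, 25], [0, 1, 16, 17, 4, 5, 20, 21, 8, 9, 24, 25, 12, 13, 14, 15, 2, 3, 18, 19, 6, 7, 22, 23, 10, 11, 26, 27]],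
    [(2, [], [0, 1, 2, 3, 4, 5, 6, 7, 8, 9, 10, 11, 12, 13, 14, 15, 16, 17, 18, 19, 20, 21, 22, 23, 24, 25, 26, 27]),
     (16, [4], [0, 1, 16, 17, 4, 5, 20, 21, 8, 9, 24, 25, 12, 13, 14, 15, 2, 3, 18, 19, 6, 7, 22, 23, 10, 11, 26, 27]),
     (18, [4, 3], [0, 1, 16, 17, 21, 20, 5, 4, 8, 9, 24, 25, 12, 13, 14, 15, 18, 19, 2, 3, 6, 7, 22, 23, 26, 27, 10, 11]),
     (12, [4, 3, 1], [0, 1, 16, 17, 9, 20, 25, 4, 8, 21, 24, 5, 2, 13, 3, 15, 18, 19, 12, 14, 27, 7, 10, 23, 26, 6, 22, 11]),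
     (13, [4, 3, 1, 0], [0, 1, 16, 17, 20, 9, 4, 25, 8, 21, 24, 5, 13, 2, 15, 3, 18, 19, 12, 14, 7, 27, 23, 10, 26, 6, 22, 11]),
     (15, [4, 3, 1, 2], [0, 1, 16, 17, 9, 20, 25, 4, 21, 8, 5, 24, 15, 3, 13, 2, 18, 19, 12, 14, 27, 7, 10, 23, 6, 26, 11, 22]),
     (14, [4, 3, 1, 0, 2], [0, 1, 16, 17, 20, 9, 4, 25, 21, 8, 5, 24, 3, 15, 2, 13, 18, 19, 12, 14, 7, 27, 23, 10, 6, 26, 11, 22]),
     (19, [4, 3, 1, 0, 2, 1], [0, 1, 16, 17, 8, 9, 24, 25, 21, 20, 5, 4, 12, 15, 14, 13, 18, 19, 3, 2, 26, 27, 11, 10, 6, 7, 23, 22]),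
     (17, [4, 3, 1, 0, 2, 1, 3], [0, 1, 16, 17, 25, 24, 9, 8, 21, 20, 5, 4, 12, 15, 14, 13, 3, 2, 18, 19, 26, 27, 11, 10, 23, 22, 6, 7]),
     (3, [4, 3, 1, 0, 2, 1, 3, 4], [0, 1, 3, 2, 25, 24, 26, 27, 21, 20, 23, 22, 12, 15, 14, 13, 16, 17, 18, 19, 9, 8, 11, 10, 5, 4, 6, 7])],
    [[0], [1], [2], [3]]⟩,
  ⟨4, [[0, 1, 2, 3, 5, 4, 7, 6, 8, 9, 10, 11, 13, 12, 15, 14, 16, 17, 18, 19, 21, 20, 23, 22, 24, 25, 26, 27], [0, 1, 2, 3, 9, 5, 11, 7, 8, 4, 10, 6, 18, 13, 19, 15, 16, 17, 12, 14, 25, 21, 26, 23, 24, 20, 22, 27], [0, 1, 2, 3, 4, 5, 6, 7, 9, 8, 11, 10, 15, 14, 13, 12, 16, 17, 18, 19, 20, 21, 22, 23, 25, 24, 27, 26], [0, 1, 2, 3, 7, 6, 5, 4, 8, 9, 10, 11, 12, 13, 14, 15, 18, 19, 16, 17, 20, 21, 22, 23, 26, 27, 24, 25]],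
    [(4, [], [0, 1, 2, 3, 4, 5, 6, 7, 8, 9, 10, 11, 12, 13, 14, 15, 16, 17, 18, 19, 20, 21, 22, 23, 24, 25, 26, 27]),
     (5, [0], [0, 1, 2, 3, 5, 4, 7, 6, 8, 9, 10, 11, 13, 12, 15, 14, 16, 17, 18, 19, 21, 20, 23, 22, 24, 25, 26, 27]),
     (9, [1], [0, 1, 2, 3, 9, 5, 11, 7, 8, 4, 10, 6, 18, 13, 19, 15, 16, 17, 12, 14, 25, 21, 26, 23, 24, 20, 22, 27]),
     (7, [3], [0, 1, 2, 3, 7, 6, 5, 4, 8, 9, 10, 11, 12, 13, 14, 15, 18, 19, 16, 17, 20, 21, 22, 23, 26, 27, 24, 25]),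
     (6, [0, 3], [0, 1, 2, 3, 6, 7, 4, 5, 8, 9, 10, 11, 13, 12, 15, 14, 18, 19, 16, 17, 21, 20, 23, 22, 26, 27, 24, 25]),
     (8, [1, 2], [0, 1, 2, 3, 9, 5, 11, 7, 4, 8, 6, 10, 15, 19, 13, 18, 16, 17, 12, 14, 25, 21, 26, 23, 20, 24, 27, 22]),
     (11, [0, 3, 1], [0, 1, 2, 3, 9, 7, 11, 5, 8, 6, 10, 4, 16, 12, 17, 14, 18, 19, 13, 15, 27, 20, 24, 22, 26, 21, 23, 25]),
     (10, [0, 3, 1, 2], [0, 1, 2, 3, 9, 7, 11, 5, 6, 8, 4, 10, 14, 17, 12, 16, 18, 19, 13, 15, 27, 20, 24, 22, 21, 26, 25, 23])],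
    [[2], [0, 1, 0], [1, 3, 1]]⟩,
  ⟨5, [[0, 1, 2, 3, 4, 5, 6, 7, 9, 8, 11, 10, 15, 14, 13, 12, 16, 17, 18, 19, 20, 21, 22, 23, 25, 24, 27, 26], [0, 1, 2, 3, 4, 9, 6, 11, 8, 5, 10, 7, 12, 18, 14, 19, 16, 17, 13, 15, 20, 25, 22, 26, 24, 21, 23, 27], [0, 1, 2, 3, 4, 11, 6, 9, 8, 7, 10, 5, 16, 13, 17, 15, 12, 14, 18, 19, 27, 21, 24, 23, 22, 25, 26, 20]],
    [(5, [], [0, 1, 2, 3, 4, 5, 6, 7, 8, 9, 10, 11, 12, 13, 14, 15, 16, 17, 18, 19, 20, 21, 22, 23, 24, 25, 26, 27]),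
     (9, [1], [0, 1, 2, 3, 4, 9, 6, 11, 8, 5, 10, 7, 12, 18, 14, 19, 16, 17, 13, 15, 20, 25, 22, 26, 24, 21, 23, 27]),
     (11, [2], [0, 1, 2, 3, 4, 11, 6, 9, 8, 7, 10, 5, 16, 13, 17, 15, 12, 14, 18, 19, 27, 21, 24, 23, 22, 25, 26, 20]),
     (8, [1, 0], [0, 1, 2, 3, 4, 9, 6, 11, 5, 8, 7, 10, 19, 14, 18, 12, 16, 17, 13, 15, 20, 25, 22, 26, 21, 24, 27, 23]),
     (7, [1, 2], [0, 1, 2, 3, 4, 7, 6, 5, 8, 11, 10, 9, 16, 18, 17, 19, 12, 14, 13, 15, 27, 25, 24, 26, 22, 21, 23, 20]),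
     (10, [2, 0], [0, 1, 2, 3, 4, 11, 6, 9, 7, 8, 5, 10, 15, 17, 13, 16, 12, 14, 18, 19, 27, 21, 24, 23, 25, 22, 20, 26])],
    [[0], [1, 0, 2, 0, 1]]⟩,
  ⟨8, [[0, 1, 2, 3, 4, 5, 6, 7, 9, 8, 11, 10, 15, 14, 13, 12, 16, 17, 18, 19, 20, 21, 22, 23, 25, 24, 27, 26], [0, 1, 2, 3, 4, 5, 6, 7, 11, 10, 9, 8, 12, 13, 14, 15, 19, 18, 17, 16, 23, 22, 21, 20, 24, 25, 26, 27]],
    [(8, [], [0, 1, 2, 3, 4, 5, 6, 7, 8, 9, 10, 11, 12, 13, 14, 15, 16, 17, 18, 19, 20, 21, 22, 23, 24, 25, 26, 27]),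
     (9, [0], [0, 1, 2, 3, 4, 5, 6, 7, 9, 8, 11, 10, 15, 14, 13, 12, 16, 17, 18, 19, 20, 21, 22, 23, 25, 24, 27, 26]),
     (11, [1], [0, 1, 2, 3, 4, 5, 6, 7, 11, 10, 9, 8, 12, 13, 14, 15, 19, 18, 17, 16, 23, 22, 21, 20, 24, 25, 26, 27]),
     (10, [0, 1], [0, 1, 2, 3, 4, 5, 6, 7, 10, 11, 8, 9, 15, 14, 13, 12, 19, 18, 17, 16, 23, 22, 21, 20, 25, 24, 27, 26])],
    []⟩]

noncomputable def LE : List (List Nat) := [[0, 1, 2, 3, 4, 5, 6, 7, 8, 9, 10, 11, 12, 13, 14, 15, 16, 17, 18, 19, 20, 21, 22, 23, 24, 25, 26, 27],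
  [0, 1, 2, 3, 5, 4, 7, 6, 8, 9, 10, 11, 13, 12, 15, 14, 16, 17, 18, 19, 21, 20, 23, 22, 24, 25, 26, 27],
  [0, 1, 2, 3, 5, 4, 7, 6, 8, 9, 10, 11, 13, 12, 15, 14, 16, 17, 18, 19, 21, 20, 23, 22, 24, 25, 26, 27],
  [0, 1, 2, 3, 9, 5, 11, 7, 8, 4, 10, 6, 18, 13, 19, 15, 16, 17, 12, 14, 25, 21, 26, 23, 24, 20, 22, 27],
  [0, 1, 2, 3, 9, 5, 11, 7, 8, 4, 10, 6, 18, 13, 19, 15, 16, 17, 12, 14, 25, 21, 26, 23, 24, 20, 22, 27],
  [0, 1, 2, 3, 4, 5, 6, 7, 9, 8, 11, 10, 15, 14, 13, 12, 16, 17, 18, 19, 20, 21, 22, 23, 25, 24, 27, 26],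
  [0, 1, 2, 3, 4, 5, 6, 7, 9, 8, 11, 10, 15, 14, 13, 12, 16, 17, 18, 19, 20, 21, 22, 23, 25, 24, 27, 26],
  [8, 1, 10, 3, 4, 5, 6, 7, 0, 9, 2, 11, 22, 23, 14, 15, 24, 17, 26, 19, 20, 21, 12, 13, 16, 25, 18, 27],
  [8, 1, 10, 3, 4, 5, 6, 7, 0, 9, 2, 11, 22, 23, 14, 15, 24, 17, 26, 19, 20, 21, 12, 13, 16, 25, 18, 27],
  [1, 0, 3, 2, 4, 5, 6, 7, 8, 9, 10, 11, 14, 15, 12, 13, 17, 16, 19, 18, 20, 21, 22, 23, 24, 25, 26, 27],
  [1, 0, 3, 2, 4, 5, 6, 7, 8, 9, 10, 11, 14, 15, 12, 13, 17, 16, 19, 18, 20, 21, 22, 23, 24, 25, 26, 27],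
  [2, 3, 0, 1, 6, 7, 4, 5, 10, 11, 8, 9, 12, 13, 14, 15, 16, 17, 18, 19, 20, 21, 22, 23, 24, 25, 26, 27],
  [2, 3, 0, 1, 6, 7, 4, 5, 10, 11, 8, 9, 12, 13, 14, 15, 16, 17, 18, 19, 20, 21, 22, 23, 24, 25, 26, 27],
  [16, 17, 2, 3, 20, 21, 6, 7, 24, 25, 10, 11, 12, 13, 14, 15, 0, 1, 18, 19, 4, 5, 22, 23, 8, 9, 26, 27],
  [16, 17, 2, 3, 20, 21, 6, 7, 24, 25, 10, 11, 12, 13, 14, 15, 0, 1, 18, 19, 4, 5, 22, 23, 8, 9, 26, 27],
  [4, 6, 5, 7, 12, 14, 13, 15, 20, 22, 21, 23, 0, 1, 2, 3, 9, 11, 8, 10, 18, 19, 16, 17, 25, 26, 24, 27],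
  [12, 13, 14, 15, 0, 2, 1, 3, 18, 16, 19, 17, 4, 6, 5, 7, 22, 23, 20, 21, 8, 10, 9, 11, 26, 24, 25, 27],
  [4, 5, 6, 7, 0, 1, 2, 3, 9, 8, 11, 10, 12, 14, 13, 15, 20, 21, 22, 23, 16, 17, 18, 19, 25, 24, 26, 27],
  [4, 5, 6, 7, 0, 1, 2, 3, 9, 8, 11, 10, 12, 14, 13, 15, 20, 21, 22, 23, 16, 17, 18, 19, 25, 24, 26, 27],
  [23, 17, 20, 18, 19, 21, 16, 22, 11, 10, 8, 9, 12, 24, 25, 15, 2, 5, 7, 0, 6, 1, 3, 4, 14, 13, 26, 27],
  [19, 21, 16, 22, 23, 17, 20, 18, 10, 11, 9, 8, 12, 25, 24, 15, 6, 1, 3, 4, 2, 5, 7, 0, 13, 14, 26, 27]]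

noncomputable def SW : List (List Nat) := [[1],
  [17],
  [5],
  [11],
  [9, 15, 5, 16],
  [9, 7, 9, 15, 5, 16, 7, 9]]

noncomputable def US : List (List Nat) := [[20, 15, 6, 16, 17, 15, 5, 16, 19],
  [1, 3],
  [1, 9],
  [8, 1, 9, 7],
  [16, 6, 4, 1, 9, 3, 5, 15],
  [16, 20, 15, 6, 16, 17, 15, 5, 16, 19, 15]]

noncomputable def KW : List Nat := [1, 15, 19, 3, 5, 7, 16, 19]

end CF.W3.B4
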